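import Groth.Prelude.Def_CohB1
import Mathlib.AlgebraicGeometry.ProjectiveSpectrum.Basic

/-!
# Two points of projective space in the same fibre over the base, separated by a coordinate
-/

set_option autoImplicit false
universe u
open CategoryTheory CategoryTheory.Limits AlgebraicGeometry TopologicalSpace

namespace Groth.Agent.SDiv.K474.ProjPts

variable (R : Type u) [CommRing R] (n : ℕ)

/-- The coordinate point `e_i`. -/
noncomputable def ev (i : Fin (n + 1)) : MvPolynomial (Fin (n + 1)) R →+* Γ(Spec (CommRingCat.of R), ⊤) :=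
  (Scheme.ΓSpecIso (CommRingCat.of R)).inv.hom.comp
    (MvPolynomial.eval (fun j => if j = i then (1 : R) else 0))

theorem ev_X (i j : Fin (n + 1)) : ev R n i (MvPolynomial.X j) = if j = i then 1 else 0 := by
  rw [ev, RingHom.comp_apply, MvPolynomial.eval_X]
  split_ifs
  · rw [map_one]
  · rw [map_zero]

theorem map_ev (i : Fin (n + 1)) :
    (HomogeneousIdeal.irrelevant (CohB1.polyGrading n R)).toIdeal.map (ev R n i) = ⊤ := by
  rw [Ideal.eq_top_iff_one]
  have h : ev R n i (MvPolynomial.X i) = 1 := by rw [ev_X, if_pos rfl]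
  rw [← h]
  apply Ideal.mem_map_of_mem
  rw [HomogeneousIdeal.toIdeal_irrelevant, RingHom.mem_ker]
  rw [GradedRing.projZeroRingHom_apply]
  exact DirectSum.decompose_of_mem_ne (CohB1.polyGrading n R) (MvPolynomial.isHomogeneous_X _ i) one_ne_zero

/-- The section of projective space through the coordinate point `e_i`. -/
noncomputable def pt (i : Fin (n + 1)) : Spec (CommRingCat.of R) ⟶ CohB1.ProjSpace n R :=
  Proj.fromOfGlobalSections (CohB1.polyGrading n R) (ev R n i) (map_ev R n i)

theorem pt_toSpec (i : Fin (n + 1)) : pt R n i ≫ CohB1.ProjSpace.toSpec n R = 𝟙 _ := by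
  have h0 := Proj.fromOfGlobalSections_toSpecZero_assoc (CohB1.polyGrading n R) (ev R n i) (map_ev R n i)
    (Spec.map (CommRingCat.ofHom (algebraMap R (CohB1.polyGrading n R 0))))
  refine Eq.trans h0 ?_
  rw [← Spec.map_comp, ← CommRingCat.ofHom_comp]
  have h : (((ev R n i).comp (algebraMap (CohB1.polyGrading n R 0) (MvPolynomial (Fin (n + 1)) R))).comp
      (algebraMap R (CohB1.polyGrading n R 0))) = (Scheme.ΓSpecIso (CommRingCat.of R)).inv.hom := by
    ext r
    simp only [RingHom.comp_apply, ev]
    congr 1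
    change MvPolynomial.eval _ (MvPolynomial.C r) = r
    rw [MvPolynomial.eval_C]
  rw [h, CommRingCat.ofHom_hom]
  exact toSpecΓ_SpecMap_ΓSpecIso_inv _

theorem pt_mem_iff (i j : Fin (n + 1)) (p : Spec (CommRingCat.of R)) :
    (pt R n i) p ∈ Proj.basicOpen (CohB1.polyGrading n R) (MvPolynomial.X j) ↔ j = i := by
  have h := Proj.fromOfGlobalSections_preimage_basicOpen (CohB1.polyGrading n R) (ev R n i) (map_ev R n i)
    (r := MvPolynomial.X j) one_pos (MvPolynomial.isHomogeneous_X _ j)
  have h2 : (pt R n i) p ∈ Proj.basicOpen (CohB1.polyGrading n R) (MvPolynomial.X j) ↔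
      p ∈ (Spec (CommRingCat.of R)).basicOpen (ev R n i (MvPolynomial.X j)) := by
    rw [← h]; rfl
  rw [h2, ev_X]
  split_ifs with hij
  · simp [hij]
  · simp [hij]

end Groth.Agent.SDiv.K474.ProjPts
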