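import Groth.Agent.Fitt.K360.Basic
import Mathlib.RingTheory.Nakayama
import Mathlib.LinearAlgebra.Matrix.Adjugate
import Mathlib.RingTheory.Localization.BaseChange
import Mathlib.RingTheory.Localization.AtPrime.Basic

/-!
# Fitting ideals and torsion quotients

* `exists_gens_of_local`: over a local ring, if `Fit_k(M) = (f)` then `M / {x | f x = 0}` is generated by `k`
  elements.
-/

set_option autoImplicit false

namespace Groth.Agent.SDiv.K474.FittTors

open K360.FittBasic
open scoped TensorProduct

universe u v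

section Local

variable {R : Type*} {M : Type*} [CommRing R] [AddCommGroup M] [Module R M]

/-- The determinants which define the Fitting ideal. -/
def dets {ι : Type*} [Fintype ι] [DecidableEq ι] (x : ι → M) (r : ℕ) : Set R :=
  {d | ∃ (a : Matrix ι ι R) (t : Finset ι), t.card ≤ r ∧
    (∀ i, i ∉ t → ∑ j, a i j • x j = 0) ∧ a.det = d}

theorem fit_eq_span_dets {ι : Type*} [Fintype ι] [DecidableEq ι] (x : ι → M) (r : ℕ) :
    fit (R := R) x r = Ideal.span (dets x r) := rfl

/-- In a local ring, a principal ideal `(f)`, `f ≠ 0`, generated by a set is generated by an element of the set. -/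
theorem exists_mem_span_singleton [IsLocalRing R] {f : R} (hf : f ≠ 0) {s : Set R}
    (hs : Ideal.span s = Ideal.span {f}) : ∃ d ∈ s, ∃ u : Rˣ, d = u * f := by
  by_contra hcon
  push Not at hcon
  have h1 : ∀ d ∈ s, d ∈ (IsLocalRing.maximalIdeal R) * Ideal.span {f} := by
    intro d hd
    have h2 : d ∈ Ideal.span {f} := hs ▸ Ideal.subset_span hd
    obtain ⟨c, rfl⟩ := Ideal.mem_span_singleton'.1 h2
    refine Ideal.mul_mem_mul ?_ (Ideal.mem_span_singleton_self f)
    rw [IsLocalRing.mem_maximalIdeal, mem_nonunits_iff]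
    intro hc
    exact hcon _ hd hc.unit rfl
  have h3 : f ∈ (IsLocalRing.maximalIdeal R) * Ideal.span {f} := by
    have h4 : Ideal.span s ≤ (IsLocalRing.maximalIdeal R) * Ideal.span {f} := Ideal.span_le.2 h1
    exact h4 (hs ▸ Ideal.mem_span_singleton_self f)
  obtain ⟨c, hc, hcf⟩ := Ideal.mem_mul_span_singleton.1 h3
  have hu : IsUnit (1 - c) := by
    by_contra hnu
    have h5 : (1 - c) ∈ IsLocalRing.maximalIdeal R := by
      rw [IsLocalRing.mem_maximalIdeal]; exact hnu
    have h6 : (1 : R) ∈ IsLocalRing.maximalIdeal R := by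
      have := Ideal.add_mem _ h5 hc
      rwa [sub_add_cancel] at this
    exact (Ideal.ne_top_iff_one _).1 (IsLocalRing.maximalIdeal.isMaximal R).ne_top h6
  apply hf
  have h7 : (1 - c) * f = 0 := by rw [sub_mul, one_mul, hcf, sub_self]
  exact (hu.mul_right_eq_zero).1 h7

/-- Expanding a generating family modulo the elements killed by `f`. -/
theorem exists_expand {ι : Type*} [Fintype ι] [DecidableEq ι] (x : ι → M) {k : ℕ} {f : R}
    (hfit : fit (R := R) x k = Ideal.span {f}) (a : Matrix ι ι R) (t : Finset ι) (ht : t.card ≤ k)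
    (ha : ∀ i, i ∉ t → ∑ j, a i j • x j = 0) (u : Rˣ) (hu : a.det = u * f) :
    ∀ j, ∃ c : ι → R, f • (x j - ∑ i ∈ t, c i • (∑ l, a i l • x l)) = 0 := by
  intro j
  -- the adjugate has entries divisible by `f` in the columns of `t`
  have h1 : ∀ i ∈ t, ∃ c, a.adjugate j i = c * f := by
    intro i hi
    have h2 : a.adjugate j i ∈ fit (R := R) x k := by
      rw [Matrix.adjugate_apply]
      refine Ideal.subset_span ⟨a.updateRow i (Pi.single j 1), t, ht, fun l hl => ?_, rfl⟩
      have hne : l ≠ i := fun h => hl (h ▸ hi)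
      rw [← ha l hl]
      exact Finset.sum_congr rfl fun m _ => by rw [Matrix.updateRow_ne hne]
    rw [hfit] at h2
    obtain ⟨c, hc⟩ := Ideal.mem_span_singleton'.1 h2
    exact ⟨c, hc.symm⟩
  choose! c hc using h1
  refine ⟨fun i => (↑u⁻¹ : R) * c i, ?_⟩
  have h3 : a.det • x j = ∑ i, a.adjugate j i • (∑ l, a i l • x l) := by
    have h4 : ∀ l, ∑ i, a.adjugate j i * a i l = if j = l then a.det else 0 := by
      intro l
      have := congrFun (congrFun (Matrix.adjugate_mul a) j) l
      rw [Matrix.mul_apply] at this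
      rw [this, Matrix.smul_apply, Matrix.one_apply, smul_eq_mul]
      split_ifs <;> simp
    calc a.det • x j = ∑ l, (if j = l then a.det else 0) • x l := by
          simp
      _ = ∑ l, (∑ i, a.adjugate j i * a i l) • x l := by simp_rw [h4]
      _ = ∑ l, ∑ i, (a.adjugate j i * a i l) • x l := by simp_rw [Finset.sum_smul]
      _ = ∑ i, ∑ l, (a.adjugate j i * a i l) • x l := Finset.sum_comm
      _ = ∑ i, a.adjugate j i • (∑ l, a i l • x l) := by
          simp_rw [Finset.smul_sum, mul_smul]
  have h5 : ∑ i, a.adjugate j i • (∑ l, a i l • x l) = ∑ i ∈ t, a.adjugate j i • (∑ l, a i l • x l) := by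
    refine (Finset.sum_subset (Finset.subset_univ t) fun i _ hi => ?_).symm
    rw [ha i hi, smul_zero]
  rw [h5, hu] at h3
  have h6 : (u : R) • (f • (x j - ∑ i ∈ t, ((↑u⁻¹ : R) * c i) • (∑ l, a i l • x l))) = 0 := by
    rw [smul_sub, smul_sub, sub_eq_zero, smul_smul, h3, Finset.smul_sum, Finset.smul_sum]
    refine Finset.sum_congr rfl fun i hi => ?_
    rw [hc i hi, smul_smul, smul_smul]
    congr 1
    calc c i * f = (u * ↑u⁻¹ : R) * (c i * f) := by rw [Units.mul_inv, one_mul]
      _ = _ := by ring
  have h7 := congrArg (fun m => (↑u⁻¹ : R) • m) h6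
  simpa [smul_smul] using h7

end Local

section Fitting

variable {R : Type u} [CommRing R] {M : Type v} [AddCommGroup M] [Module R M]

/-- Over a local ring, if the `k`-th Fitting ideal of a finite module is principal, generated by `f`, then modulo
the elements killed by `f` the module is generated by `k` elements. -/
theorem exists_gens_of_local [IsLocalRing R] [Module.Finite R M] {k : ℕ} {f : R}
    (hfit : Fitt.ideal R M k = Ideal.span {f}) :
    ∃ w : Fin k → M, ∀ m : M, ∃ c : Fin k → R, f • (m - ∑ i, c i • w i) = 0 := by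
  classical
  by_cases hf : f = 0
  · refine ⟨0, fun m => ⟨0, ?_⟩⟩
    rw [hf, zero_smul]
  obtain ⟨n, x, hx⟩ := Module.Finite.exists_fin (R := R) (M := M)
  rw [ideal_eq_fit x hx] at hfit
  obtain ⟨d, ⟨a, t, ht, ha, rfl⟩, u, hu⟩ := exists_mem_span_singleton hf (s := dets x k) hfit
  have hexp := exists_expand x hfit a t ht ha u hu
  choose c hc using hexp
  -- enumerate `t` inside `Fin k`
  obtain ⟨g, hg⟩ : ∃ g : t → Fin k, Function.Injective g := by
    have h1 : Fintype.card t ≤ Fintype.card (Fin k) := by simpa using ht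
    obtain ⟨e⟩ := Function.Embedding.nonempty_of_card_le h1
    exact ⟨e, e.injective⟩
  let w : Fin k → M := fun i => if h : ∃ s : t, g s = i then ∑ l, a (h.choose : Fin n) l • x l else 0
  have hw : ∀ s : t, w (g s) = ∑ l, a (s : Fin n) l • x l := by
    intro s
    have h : ∃ s' : t, g s' = g s := ⟨s, rfl⟩
    simp only [w]
    rw [dif_pos h, hg h.choose_spec]
  -- the submodule of good elements
  have key : ∀ m ∈ Submodule.span R (Set.range x), ∃ c : Fin k → R, f • (m - ∑ i, c i • w i) = 0 := by
    intro m hm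
    induction hm using Submodule.span_induction with
    | mem y hy =>
      obtain ⟨j, rfl⟩ := hy
      let c' : Fin k → R := fun i => if h : ∃ s : t, g s = i then c j (h.choose : Fin n) else 0
      have hc' : ∀ s : t, c' (g s) = c j s := by
        intro s
        have h : ∃ s' : t, g s' = g s := ⟨s, rfl⟩
        simp only [c']
        rw [dif_pos h, hg h.choose_spec]
      refine ⟨c', ?_⟩
      have h1 : ∑ i, c' i • w i = ∑ i ∈ t, c j i • (∑ l, a i l • x l) := by
        have h2 : ∑ i, c' i • w i = ∑ i ∈ Finset.univ.image g, c' i • w i := by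
          refine (Finset.sum_subset (Finset.subset_univ _) fun i _ hi => ?_).symm
          have : ¬ ∃ s : t, g s = i := by
            rintro ⟨s, rfl⟩
            exact hi (Finset.mem_image_of_mem g (Finset.mem_univ s))
          simp only [c']
          rw [dif_neg this, zero_smul]
        rw [h2, Finset.sum_image (fun a _ b _ h => hg h), ← Finset.sum_coe_sort t]
        exact Finset.sum_congr rfl fun s _ => by rw [hc', hw]
      rw [h1]
      exact hc j
    | zero => exact ⟨0, by simp⟩
    | add y z _ _ hy hz =>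
      obtain ⟨c₁, h₁⟩ := hy
      obtain ⟨c₂, h₂⟩ := hz
      refine ⟨c₁ + c₂, ?_⟩
      have : y + z - ∑ i, (c₁ + c₂) i • w i = (y - ∑ i, c₁ i • w i) + (z - ∑ i, c₂ i • w i) := by
        simp only [Pi.add_apply, add_smul, Finset.sum_add_distrib]
        abel
      rw [this, smul_add, h₁, h₂, add_zero]
    | smul r y _ hy =>
      obtain ⟨c₁, h₁⟩ := hy
      refine ⟨r • c₁, ?_⟩
      have : r • y - ∑ i, (r • c₁) i • w i = r • (y - ∑ i, c₁ i • w i) := by
        simp only [Pi.smul_apply, smul_eq_mul, mul_smul, smul_sub, Finset.smul_sum]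
      rw [this, smul_comm, h₁, smul_zero]
  exact ⟨w, fun m => key m (hx ▸ Submodule.mem_top)⟩

/-- The localization of a module at a prime kills the elements which it should kill. -/
theorem baseChange_apply_eq_zero {N : Type v} [AddCommGroup N] [Module R N] (π : M →ₗ[R] N) {f : R}
    (hπ : ∀ x : M, f • x = 0 → π x = 0) (p : Ideal R) [p.IsPrime]
    (x : TensorProduct R (Localization.AtPrime p) M) (hx : algebraMap R (Localization.AtPrime p) f • x = 0) :
    π.baseChange (Localization.AtPrime p) x = 0 := by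
  have hloc : IsLocalizedModule p.primeCompl (TensorProduct.mk R (Localization.AtPrime p) M 1) := inferInstance
  obtain ⟨⟨y, s⟩, hy⟩ := IsLocalizedModule.surj p.primeCompl (TensorProduct.mk R (Localization.AtPrime p) M 1) x
  have h1 : TensorProduct.mk R (Localization.AtPrime p) M 1 (f • y) = TensorProduct.mk R (Localization.AtPrime p) M 1 0 := by
    rw [map_smul, ← hy, map_zero, smul_comm]
    have h2 : f • x = 0 := by
      rw [← hx, algebraMap_smul]
    rw [h2, smul_zero]
  obtain ⟨c, hc⟩ := (IsLocalizedModule.eq_iff_exists p.primeCompl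
    (TensorProduct.mk R (Localization.AtPrime p) M 1)).1 h1
  rw [smul_zero, Submonoid.smul_def, smul_comm] at hc
  have h3 := hπ _ hc
  -- `c s x` is mapped to zero
  have h4 : (c : R) • (s : R) • x = TensorProduct.mk R (Localization.AtPrime p) M 1 ((c : R) • y) := by
    rw [map_smul, ← hy]; rfl
  have h5 : π.baseChange (Localization.AtPrime p) ((c : R) • (s : R) • x) = 0 := by
    rw [h4]
    change (1 : Localization.AtPrime p) ⊗ₜ[R] π ((c : R) • y) = 0
    rw [h3, TensorProduct.tmul_zero]
  rw [LinearMap.map_smul_of_tower, LinearMap.map_smul_of_tower] at h5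
  have hu : ∀ (t : p.primeCompl) (z : TensorProduct R (Localization.AtPrime p) N), (t : R) • z = 0 → z = 0 := by
    intro t z hz
    have h6 : algebraMap R (Localization.AtPrime p) (t : R) • z = 0 := by rwa [algebraMap_smul]
    have h7 := IsLocalization.map_units (Localization.AtPrime p) t
    exact (h7.smul_eq_zero).1 h6
  exact hu s _ (hu c _ h5)

/-- **Claim A.** If `Fit_k(M) = (f)` and `π : M → N` is surjective and kills the elements killed by `f`, then
`Fit_k(N)` is the unit ideal. -/
theorem ideal_eq_top_of_torsion [Module.Finite R M] {N : Type v} [AddCommGroup N] [Module R N] {k : ℕ} {f : R}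
    (hfit : Fitt.ideal R M k = Ideal.span {f}) (π : M →ₗ[R] N) (hsurj : Function.Surjective π)
    (hπ : ∀ x : M, f • x = 0 → π x = 0) : Fitt.ideal R N k = ⊤ := by
  classical
  by_contra hcon
  obtain ⟨p, hp, hle⟩ := Ideal.exists_le_maximal _ hcon
  have hpp : p.IsPrime := hp.isPrime
  have hN : Module.Finite R N := Module.Finite.of_surjective π hsurj
  let Rp := Localization.AtPrime p
  have h1 : Fitt.ideal Rp (TensorProduct R Rp M) k = Ideal.span {algebraMap R Rp f} := by
    rw [ideal_baseChange, hfit, Ideal.map_span, Set.image_singleton]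
  obtain ⟨w, hw⟩ := exists_gens_of_local h1
  have hgen : Submodule.span Rp (Set.range (π.baseChange Rp ∘ w)) = ⊤ := by
    rw [eq_top_iff]
    rintro z -
    obtain ⟨y, rfl⟩ := LinearMap.lTensor_surjective Rp hsurj z
    obtain ⟨c, hc⟩ := hw y
    have h2 := baseChange_apply_eq_zero π hπ p _ hc
    rw [map_sub, sub_eq_zero, map_sum] at h2
    change π.baseChange Rp y ∈ _
    rw [h2]
    refine Submodule.sum_mem _ fun i _ => ?_
    rw [map_smul]
    exact Submodule.smul_mem _ _ (Submodule.subset_span ⟨i, rfl⟩)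
  have h3 : Fitt.ideal Rp (TensorProduct R Rp N) k = ⊤ :=
    ideal_eq_top_of_card_le (π.baseChange Rp ∘ w) hgen (by simp)
  rw [ideal_baseChange] at h3
  have h4 : (Fitt.ideal R N k).map (algebraMap R Rp) ≤ IsLocalRing.maximalIdeal Rp := by
    rw [← Localization.AtPrime.map_eq_maximalIdeal]
    exact Ideal.map_mono hle
  rw [h3, top_le_iff] at h4
  exact (IsLocalRing.maximalIdeal.isMaximal Rp).ne_top h4

/-- **Claim B.** Let `π : M → N` be surjective with kernel consisting of elements killed by powers of a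
nonzerodivisor `f`. If every element of `Fit_j(M)` is killed by a power of `f`, then `Fit_j(N) = 0`. -/
theorem ideal_eq_bot_of_torsion [Module.Finite R M] {N : Type v} [AddCommGroup N] [Module R N] {j : ℕ} {f : R}
    (hf : f ∈ nonZeroDivisors R) (hfit : ∀ c ∈ Fitt.ideal R M j, ∃ n : ℕ, f ^ n * c = 0)
    (π : M →ₗ[R] N) (hsurj : Function.Surjective π) (hπ : ∀ x : M, π x = 0 → ∃ n : ℕ, f ^ n • x = 0) :
    Fitt.ideal R N j = ⊥ := by
  classical
  obtain ⟨n, x, hx⟩ := Module.Finite.exists_fin (R := R) (M := M)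
  rw [ideal_eq_fit (π ∘ x) (span_image_eq_top x hx π hsurj), eq_bot_iff]
  refine Ideal.span_le.2 ?_
  rintro _ ⟨a, t, ht, ha, rfl⟩
  have h1 : ∀ i, ∃ m : ℕ, i ∉ t → f ^ m • (∑ l, a i l • x l) = 0 := by
    intro i
    by_cases hi : i ∈ t
    · exact ⟨0, fun h => absurd hi h⟩
    · have h2 : π (∑ l, a i l • x l) = 0 := by
        rw [map_sum, ← ha i hi]
        exact Finset.sum_congr rfl fun l _ => map_smul _ _ _
      obtain ⟨m, hm⟩ := hπ _ h2
      exact ⟨m, fun _ => hm⟩
  choose m hm using h1
  let N₀ : ℕ := Finset.univ.sup m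
  have h2 : (f ^ N₀ • a).det ∈ Fitt.ideal R M j := by
    rw [ideal_eq_fit x hx]
    refine Ideal.subset_span ⟨f ^ N₀ • a, t, ht, fun i hi => ?_, rfl⟩
    have h3 : ∑ l, (f ^ N₀ • a) i l • x l = f ^ N₀ • (∑ l, a i l • x l) := by
      simp_rw [Finset.smul_sum, Matrix.smul_apply, smul_eq_mul, mul_smul]
    have h4 : m i ≤ N₀ := Finset.le_sup (Finset.mem_univ i)
    rw [h3, ← Nat.sub_add_cancel h4, pow_add, mul_smul, hm i hi, smul_zero]
  obtain ⟨q, hq⟩ := hfit _ h2
  rw [Matrix.det_smul, ← mul_assoc] at hq
  have h5 : f ^ q * (f ^ N₀) ^ Fintype.card (Fin n) ∈ nonZeroDivisors R :=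
    mul_mem (pow_mem hf _) (pow_mem (pow_mem hf _) _)
  exact (mul_left_mem_nonZeroDivisors_eq_zero_iff h5).1 hq

end Fitting

end Groth.Agent.SDiv.K474.FittTors
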