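import Groth.Agent.SDiv.K474.FittLoc
import Groth.Agent.SDiv.K474.FittTors
import Groth.Agent.Flat2C.StrictQC
import Groth.Agent.Flat2C.StrictTr
import Groth.Prelude.Def_CInt

/-!
# Fitting ideals of strict transforms

`E` an effective Cartier ideal on `X`, `H` quasi-coherent of finite type, `π : H ⟶ G` the quotient by the
`E`-power torsion.

* `isFT`: `G` is of finite type (and quasi-coherent by `StrictQC.isQCoh`).
* `sheafIdeal_eq_top`: if `E = Fit_k(H)` then `Fit_k(G) = ⊤`.
* `sheafIdeal_eq_bot`: if `Fit_j(H)` vanishes on the complement of `E` then `Fit_j(G) = ⊥`.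
-/

set_option autoImplicit false
universe u

open CategoryTheory CategoryTheory.Limits AlgebraicGeometry TopologicalSpace Opposite

namespace Groth.Agent.SDiv.K474.FittBlow

open CohqA.BaseChangeMod FittSheaf FittLoc FittTors Ega2.BasSec Fdesc.LocGen Fdesc.QCohStalk
open K360.FittBasic K360.FittFiber K360.FittLocFree CohqB.FiniteType2 Divis.IdealComap

variable {X Y : Scheme.{u}}

theorem killed_iff_of_span {E : X.IdealSheafData} {U : X.affineOpens} {f : Γ(X, U.1)}
    (hf : E.ideal U = Ideal.span {f}) (H : X.Modules) (m : Γ(H, U.1)) :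
    BlowUp.KilledByPowerNear E H U m ↔ ∃ n : ℕ, f ^ n • m = 0 := by
  have key : ∀ n : ℕ, (E ^ n).ideal U = Ideal.span {f ^ n} := by
    intro n
    rw [Scheme.IdealSheafData.ideal_pow, Pi.pow_apply, hf, Ideal.span_singleton_pow]
  constructor
  · rintro ⟨n, hn⟩
    exact ⟨n, hn _ (by rw [key n]; exact Ideal.mem_span_singleton_self _)⟩
  · rintro ⟨n, hn⟩
    refine ⟨n, fun a ha => ?_⟩
    rw [key n] at ha
    obtain ⟨c, rfl⟩ := Ideal.mem_span_singleton'.1 ha
    rw [mul_smul, hn, smul_zero]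

section

variable {E : X.IdealSheafData} (hE : BlowUp.IsEffCartierIdeal E) {H G : X.Modules}
  (hH : Coh.IsQCoh H) (hft : CohB1.IsFT H) (π : H ⟶ G) [Epi π]
  (hπ : ∀ (V : X.affineOpens) (m : Γ(H, V.1)), π.app V.1 m = 0 ↔ BlowUp.KilledByPowerNear E H V m)

include hE hH hπ in
theorem isQCoh : Coh.IsQCoh G :=
  Flat2C.StrictQC.isQCoh (Flat2C.StrictTr.isFiniteTypeIdeal_of_isEff hE) hH π hπ

include hE hH hπ in
theorem surj {U : X.Opens} (hU : IsAffineOpen U) : Function.Surjective (appLinear π U) :=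
  Flat2C.StrictQC.app_surjective (Flat2C.StrictTr.isFiniteTypeIdeal_of_isEff hE) hH π hπ hU

include hE hH hπ hft in
theorem isFT : CohB1.IsFT G := by
  have := isQCoh hE hH π hπ
  refine (isFT_iff_finite_sections G).2 fun V hV => ?_
  have := hH
  have := finite_sections_of_isFT H hft hV
  exact Module.Finite.of_surjective _ (surj hE hH π hπ hV)

include hE hH hπ hft in
theorem sheafIdeal_eq_top (k : ℕ) (hk : E = Fitt.sheafIdeal H k) : Fitt.sheafIdeal G k = ⊤ := by
  refine ext_of_forall_mem fun x => ?_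
  obtain ⟨U, hxU, f, hf, hEf⟩ := hE x
  refine ⟨U, hxU, ?_⟩
  rw [sheafIdeal_ideal G (isQCoh hE hH π hπ) (isFT hE hH hft π hπ)]
  have := hH
  have := finite_sections_of_isFT H hft U.2
  refine (ideal_eq_top_of_torsion (f := f) ?_ (appLinear π U.1) (surj hE hH π hπ U.2)
    fun m hm => ?_).trans rfl
  · rw [← hEf, hk, sheafIdeal_ideal H hH hft]
  · exact (hπ U m).2 ((killed_iff_of_span hEf H m).2 ⟨1, by rwa [pow_one]⟩)

include hE hH hπ hft in
theorem sheafIdeal_eq_bot (j : ℕ) (hj : ∀ (U : X.affineOpens) (f : Γ(X, U.1)),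
    E.ideal U = Ideal.span {f} → ∀ c ∈ (Fitt.sheafIdeal H j).ideal U, ∃ n : ℕ, f ^ n * c = 0) :
    Fitt.sheafIdeal G j = ⊥ := by
  refine ext_of_forall_mem fun x => ?_
  obtain ⟨U, hxU, f, hf, hEf⟩ := hE x
  refine ⟨U, hxU, ?_⟩
  rw [sheafIdeal_ideal G (isQCoh hE hH π hπ) (isFT hE hH hft π hπ)]
  have := hH
  have := finite_sections_of_isFT H hft U.2
  refine (ideal_eq_bot_of_torsion (f := f) hf ?_ (appLinear π U.1) (surj hE hH π hπ U.2)
    fun m hm => ?_).trans rfl
  · have := hj U f hEf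
    rwa [sheafIdeal_ideal H hH hft] at this
  · exact (killed_iff_of_span hEf H m).1 ((hπ U m).1 hm)

end

/-- Fitting ideals of isomorphic modules. -/
theorem sheafIdeal_iso {F G : X.Modules} (e : F ≅ G) (hF : Coh.IsQCoh F) (hG : Coh.IsQCoh G)
    (hft : CohB1.IsFT F) (hft' : CohB1.IsFT G) (k : ℕ) :
    Fitt.sheafIdeal F k = Fitt.sheafIdeal G k := by
  refine ext_of_forall_mem fun x => ?_
  obtain ⟨V, hV, hxV, -⟩ := exists_isAffineOpen_mem_and_subset (x := x) (U := ⊤) trivial
  refine ⟨⟨V, hV⟩, hxV, ?_⟩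
  rw [sheafIdeal_ideal F hF hft, sheafIdeal_ideal G hG hft']
  have := hF
  have := hG
  have := finite_sections_of_isFT F hft hV
  have := finite_sections_of_isFT G hft' hV
  have h1 : Function.Bijective (appLinear e.hom V) := ConcreteCategory.bijective_of_isIso (e.hom.app V)
  exact ideal_congr (LinearEquiv.ofBijective _ h1) k

theorem isFT_iso {F G : X.Modules} (e : F ≅ G) (hF : Coh.IsQCoh F) (hG : Coh.IsQCoh G)
    (hft : CohB1.IsFT F) : CohB1.IsFT G := by
  have := hF
  have := hG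
  refine (isFT_iff_finite_sections G).2 fun V hV => ?_
  have := finite_sections_of_isFT F hft hV
  have h1 : Function.Bijective (appLinear e.hom V) := ConcreteCategory.bijective_of_isIso (e.hom.app V)
  exact Module.Finite.of_surjective _ h1.2

/-- Fitting ideals of the restriction along an open immersion. -/
theorem sheafIdeal_restrict (j : Y ⟶ X) [IsOpenImmersion j] (F : X.Modules) (hF : Coh.IsQCoh F)
    (hft : CohB1.IsFT F) (k : ℕ) :
    CohB1.IsFT (F.restrict j) ∧ Fitt.sheafIdeal (F.restrict j) k = (Fitt.sheafIdeal F k).comap j := by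
  have e : (Scheme.Modules.pullback j).obj F ≅ F.restrict j :=
    ((Scheme.Modules.restrictFunctorIsoPullback j).app F).symm
  have h1 : Coh.IsQCoh (F.restrict j) := restrict_isQCoh F hF j
  have : F.IsQuasicoherent := hF
  have h2 : Coh.IsQCoh ((Scheme.Modules.pullback j).obj F) :=
    CohqA.PullbackQCoh.isQuasicoherent_pullback j F
  have h3 := isFT_pullback j F hF hft
  have h4 : CohB1.IsFT (F.restrict j) := isFT_iso e h2 h1 h3
  exact ⟨h4, by rw [sheafIdeal_comap j F hF hft]; exact (sheafIdeal_iso e h2 h1 h3 h4 k).symm⟩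

/-- Fitting ideals of a module which is locally free of rank `k` over an open subscheme. -/
theorem sheafIdeal_comap_of_free (j : Y ⟶ X) [IsOpenImmersion j] (F : X.Modules) (hF : Coh.IsQCoh F)
    (hft : CohB1.IsFT F) (k : ℕ) (h : FlatMod.IsFinLocFreeOfRank k (F.restrict j)) :
    (∀ i, i < k → (Fitt.sheafIdeal F i).comap j = ⊥) ∧
      (∀ i, k ≤ i → (Fitt.sheafIdeal F i).comap j = ⊤) := by
  have h1 : Coh.IsQCoh (F.restrict j) := restrict_isQCoh F hF j
  have h2 := fun i => sheafIdeal_restrict j F hF hft i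
  have h3 := (isFinLocFreeOfRank_iff_fitting _ h1 (h2 0).1 k).1 h
  exact ⟨fun i hi => by rw [← (h2 i).2]; exact h3.1 i hi, fun i hi => by rw [← (h2 i).2]; exact h3.2 i hi⟩

/-- A function on an affine open whose ideal pulls back to zero on an open subscheme vanishes there. -/
theorem res_eq_zero_of_comap_eq_bot (I : X.IdealSheafData) (W : X.Opens)
    (h : I.comap W.ι = ⊥) (U : X.affineOpens) (c : Γ(X, U.1)) (hc : c ∈ I.ideal U)
    (V : X.affineOpens) (hVU : V.1 ≤ U.1) (hVW : V.1 ≤ W) :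
    X.presheaf.map (homOfLE hVU).op c = 0 := by
  have h1 : I.ideal V = ⊥ := by
    have hV' : IsAffineOpen (W.ι ⁻¹ᵁ V.1) := V.2.preimage_of_isOpenImmersion W.ι (by simpa using hVW)
    have h2 := ideal_comap I W.ι V ⟨W.ι ⁻¹ᵁ V.1, hV'⟩ le_rfl
    rw [h] at h2
    have h3 : (⊥ : (W : Scheme.{u}).IdealSheafData).ideal ⟨W.ι ⁻¹ᵁ V.1, hV'⟩ = ⊥ := rfl
    rw [h3] at h2
    have h4 : Function.Bijective (W.ι.appLE V.1 (W.ι ⁻¹ᵁ V.1) le_rfl).hom := by
      have : IsIso (W.ι.appLE V.1 (W.ι ⁻¹ᵁ V.1) le_rfl) := by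
        rw [← Scheme.Hom.app_eq_appLE]
        exact W.ι.isIso_app V.1 (by simpa using hVW)
      exact ConcreteCategory.bijective_of_isIso (W.ι.appLE V.1 (W.ι ⁻¹ᵁ V.1) le_rfl)
    exact ((Ideal.map_eq_bot_iff_of_injective h4.1).1 h2.symm)
  have h2 := I.map_ideal (U := V) (V := U) hVU
  rw [h1] at h2
  have h3 := Ideal.mem_map_of_mem (X.presheaf.map (homOfLE hVU).op).hom hc
  exact h2.le h3

/-- Sections over an affine open which vanish on `D(f)` are killed by a power of `f`. -/
theorem exists_pow_mul_eq_zero (U : X.affineOpens) (f c : Γ(X, U.1))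
    (h : X.presheaf.map (homOfLE (X.basicOpen_le f)).op c = 0) : ∃ n : ℕ, f ^ n * c = 0 := by
  have h1 := U.2.isLocalization_basicOpen f
  have h2 : algebraMap Γ(X, U.1) Γ(X, X.basicOpen f) c = algebraMap Γ(X, U.1) Γ(X, X.basicOpen f) 0 := by
    rw [map_zero]; exact h
  obtain ⟨⟨_, n, rfl⟩, hn⟩ := (IsLocalization.eq_iff_exists (.powers f) Γ(X, X.basicOpen f)).1 h2
  exact ⟨n, by simpa using hn⟩

/-- **Strict transforms of modules which are locally free of rank `k` outside `V(Fit_k)`.** -/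
theorem isFinLocFreeOfRank_strict (b : X ⟶ Y) (F : Y.Modules) (hF : Coh.IsQCoh F) (hft : CohB1.IsFT F)
    (k : ℕ) (hE : BlowUp.IsEffCartierIdeal ((Fitt.sheafIdeal F k).comap b)) (G : X.Modules)
    (π : (Scheme.Modules.pullback b).obj F ⟶ G)
    (hG : BlowUp.IsStrictTransform b (Fitt.sheafIdeal F k) F G π)
    (hj : ∀ j < k, (Fitt.sheafIdeal F j).comap (Scheme.Opens.ι (Fitt.sheafIdeal F k).support.compl) = ⊥) :
    FlatMod.IsFinLocFreeOfRank k G := by
  have hepi := hG.1
  have : F.IsQuasicoherent := hF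
  have hH : Coh.IsQCoh ((Scheme.Modules.pullback b).obj F) := CohqA.PullbackQCoh.isQuasicoherent_pullback b F
  have hHft := isFT_pullback b F hF hft
  refine (isFinLocFreeOfRank_iff_fitting G (isQCoh hE hH π hG.2) (isFT hE hH hHft π hG.2) k).2 ?_
  have htop := sheafIdeal_eq_top hE hH hHft π hG.2 k (sheafIdeal_comap b F hF hft k)
  refine ⟨fun j hjk => sheafIdeal_eq_bot hE hH hHft π hG.2 j fun U f hUf c hc => ?_, fun j hjk => ?_⟩
  · apply exists_pow_mul_eq_zero
    refine res_eq_zero_of_comap_eq_bot (Fitt.sheafIdeal ((Scheme.Modules.pullback b).obj F) j)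
      (b ⁻¹ᵁ (Fitt.sheafIdeal F k).support.compl) ?_ U c hc (X.affineBasicOpen f) _ ?_
    · rw [← sheafIdeal_comap b F hF hft j, ← Scheme.IdealSheafData.comap_comp,
        ← morphismRestrict_ι, Scheme.IdealSheafData.comap_comp, hj j hjk,
        Scheme.IdealSheafData.comap_bot]
    · intro x hx hx'
      have h1 : x ∈ ((Fitt.sheafIdeal F k).comap b).support := by
        rw [Scheme.IdealSheafData.support_comap]
        exact hx'
      rw [Scheme.IdealSheafData.mem_support_iff_of_mem (U := U) (X.basicOpen_le f hx),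
        Scheme.mem_zeroLocus_iff] at h1
      exact h1 f (by rw [hUf]; exact Ideal.mem_span_singleton_self f) hx
  · refine ext_of_forall_mem fun x => ?_
    obtain ⟨V, hV, hxV, -⟩ := exists_isAffineOpen_mem_and_subset (x := x) (U := ⊤) trivial
    refine ⟨⟨V, hV⟩, hxV, ?_⟩
    have hq := isQCoh hE hH π hG.2
    have hq' := isFT hE hH hHft π hG.2
    rw [sheafIdeal_ideal G hq hq']
    have h1 := sheafIdeal_ideal G hq hq' k ⟨V, hV⟩
    rw [htop] at h1
    have := finite_sections_of_isFT G hq' hV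
    exact top_le_iff.1 (h1.le.trans (ideal_mono hjk))

end Groth.Agent.SDiv.K474.FittBlow
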