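import Groth.Agent.SDiv.K474.FittLoc
import Groth.Agent.SDiv.K474.FittBlow
import Groth.Agent.Vancyc.H878.RelOmega
import Groth.Agent.Vancyc.H878.OmegaRank
import Groth.Agent.QCohSub.K582.Support
import Mathlib.AlgebraicGeometry.Morphisms.FormallyUnramified

/-!
# Fitting ideals of the sheaf of differentials
-/

set_option autoImplicit false
universe u

open CategoryTheory CategoryTheory.Limits AlgebraicGeometry TopologicalSpace Opposite

namespace Groth.Agent.SDiv.K474.FittOmega

open FittSheaf FittLoc FittBlow Ega2.BasSec Fdesc.LocGen Fdesc.QCohStalk CurvesB.OmegaDer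
open CohqB.FiniteType2 Divis.IdealComap Vancyc.H878.OmegaRank

variable {X Y : Scheme.{u}}

/-- The sections of `Ω` over affine opens. -/
theorem nonempty_equiv (f : X ⟶ Y) [QuasiCompact (pullback.diagonal f)] {U : Y.Opens} {W : X.Opens}
    (e : W ≤ f ⁻¹ᵁ U) (hU : IsAffineOpen U) (hW : IsAffineOpen W) :
    letI := algX f e
    Nonempty (Ω[Γ(X, W)⁄Γ(Y, U)] ≃ₗ[Γ(X, W)] Γ(Omega.sheaf f, W)) := by
  let := algX f e
  let := modO f e
  have := isScalarTower f e
  exact ⟨LinearEquiv.ofBijective _ (bijective_lift f e hU hW)⟩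

theorem isFT_omega (f : X ⟶ Y) [LocallyOfFiniteType f] [QuasiCompact (pullback.diagonal f)] :
    CohB1.IsFT (Omega.sheaf f) := by
  have : Coh.IsQCoh (Omega.sheaf f) := isQCoh_omega f
  choose U V hU hV hyV e using CohqA.PullbackQCoh.exists_affine_pair f
  refine (isFT_iff_finite_sections_of_cover _ V hV
    (top_le_iff.1 fun x _ => Opens.mem_iSup.2 ⟨x, hyV x⟩)).2 fun x => ?_
  let := algX f (e x)
  obtain ⟨E⟩ := nonempty_equiv f (e x) (hU x) (hV x)
  have h1 : Algebra.FiniteType Γ(Y, U x) Γ(X, V x) :=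
    LocallyOfFiniteType.finiteType_appLE f (hU x) (hV x) (e x)
  exact Module.Finite.equiv E

/-- Fitting ideals of `Ω` and base change. -/
theorem comap_sheafIdeal_omega {X' Y' : Scheme.{u}} {q₁ : X' ⟶ X} {q₂ : X' ⟶ Y'} {f : X ⟶ Y}
    {g : Y' ⟶ Y} (H : IsPullback q₁ q₂ f g) [LocallyOfFiniteType f] [QuasiSeparated f] (i : ℕ) :
    (Fitt.sheafIdeal (Omega.sheaf f) i).comap q₁ = Fitt.sheafIdeal (Omega.sheaf q₂) i := by
  have h1 := isFT_omega f
  have hq : Coh.IsQCoh (Omega.sheaf f) := isQCoh_omega f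
  have : (Omega.sheaf f).IsQuasicoherent := hq
  have : QuasiSeparated q₂ := MorphismProperty.of_isPullback H inferInstance
  have : LocallyOfFiniteType q₂ := MorphismProperty.of_isPullback H inferInstance
  rw [sheafIdeal_comap q₁ _ hq h1]
  exact sheafIdeal_iso (Vancyc.H878.RelOmega.omegaBC H)
    (CohqA.PullbackQCoh.isQuasicoherent_pullback q₁ _) (isQCoh_omega q₂) (isFT_pullback q₁ _ hq h1)
    (isFT_omega q₂) i

/-- Properties of morphisms on affine opens. -/
theorem ι_comp_iff (P : MorphismProperty Scheme.{u})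
    {Q : ∀ {R S : Type u} [CommRing R] [CommRing S], (R →+* S) → Prop} [HasRingHomProperty P Q]
    [P.IsStableUnderBaseChange] [P.IsStableUnderComposition]
    (hO : ∀ {Z T : Scheme.{u}} (g : Z ⟶ T) [IsOpenImmersion g], P g) (f : X ⟶ Y) {U : Y.Opens} {V : X.Opens} (e : V ≤ f ⁻¹ᵁ U) (hU : IsAffineOpen U)
    (hV : IsAffineOpen V) : P (V.ι ≫ f) ↔ Q (f.appLE U V e).hom := by
  have : IsAffine _ := hU
  have : IsAffine _ := hV
  rw [← (HasRingHomProperty.isLocal_ringHomProperty P).respectsIso.arrow_mk_iso_iff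
    (arrowResLEAppIso f U V e)]
  refine Iff.trans ?_ (HasRingHomProperty.iff_of_isAffine (P := P) (f := f.resLE U V e))
  rw [← Scheme.Hom.resLE_comp_ι f e]
  constructor
  · intro h
    exact P.of_postcomp (W' := @IsOpenImmersion) _ U.ι inferInstance h
  · intro h
    exact P.comp_mem _ _ h (hO U.ι)

theorem subsingleton_of_span {r : ℕ} (hr : r = 0) {A M : Type*} [Ring A] [AddCommGroup M] [Module A M]
    (e : Fin r → M) (he : Submodule.span A (Set.range e) = ⊤) : Subsingleton M := by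
  subst hr
  rw [Set.range_eq_empty, Submodule.span_empty] at he
  exact (Submodule.subsingleton_iff A).1 (subsingleton_of_bot_eq_top he)

set_option backward.isDefEq.respectTransparency.types false in
theorem unramified_iff (f : X ⟶ Y) {U : Y.Opens} {V : X.Opens} (e : V ≤ f ⁻¹ᵁ U)
    (hU : IsAffineOpen U) (hV : IsAffineOpen V) :
    FormallyUnramified (V.ι ≫ f) ↔ (f.appLE U V e).hom.FormallyUnramified :=
  ι_comp_iff @FormallyUnramified (fun _ _ => inferInstance) f e hU hV

/-- **The zeroth Fitting ideal of `Ω`** cuts out the locus where `f` is not unramified. -/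
theorem not_mem_support_zero_iff (f : X ⟶ Y) [LocallyOfFiniteType f]
    [QuasiCompact (pullback.diagonal f)] (x : X) :
    x ∉ (Fitt.sheafIdeal (Omega.sheaf f) 0).support ↔
      ∃ U : X.Opens, x ∈ U ∧ FormallyUnramified (U.ι ≫ f) := by
  have hft := isFT_omega f
  have hq : Coh.IsQCoh (Omega.sheaf f) := isQCoh_omega f
  obtain ⟨V, hV, hxV, -⟩ := exists_isAffineOpen_mem_and_subset (x := f x) (U := ⊤) trivial
  constructor
  · intro h
    obtain ⟨U, hU, g, hxU, e, hg⟩ := exists_span_of_not_mem_support _ hq hft 0 x h (f ⁻¹ᵁ V) hxV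
    refine ⟨U, hxU, (unramified_iff f e hV hU).2 ?_⟩
    let := algX f e
    have h1 := subsingleton_of_span rfl g hg
    obtain ⟨E⟩ := nonempty_equiv f e hV hU
    exact ⟨E.toEquiv.subsingleton⟩
  · rintro ⟨U, hxU, hU⟩
    obtain ⟨W, hW, hxW, hWU⟩ := exists_isAffineOpen_mem_and_subset (x := x) (U := U ⊓ f ⁻¹ᵁ V) ⟨hxU, hxV⟩
    have e : W ≤ f ⁻¹ᵁ V := fun y hy => (hWU hy).2
    have h1 : FormallyUnramified (W.ι ≫ f) := by
      have h2 : W ≤ U := fun y hy => (hWU hy).1
      rw [← X.homOfLE_ι h2, Category.assoc]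
      exact MorphismProperty.comp_mem @FormallyUnramified _ _ inferInstance hU
    rw [unramified_iff f e hV hW] at h1
    let := algX f e
    obtain ⟨E⟩ := nonempty_equiv f e hV hW
    have h2 : Algebra.FormallyUnramified Γ(Y, V) Γ(X, W) := h1
    have h3 : Subsingleton Ω[Γ(X, W)⁄Γ(Y, V)] := inferInstance
    have h4 : Subsingleton Γ(Omega.sheaf f, W) := E.symm.toEquiv.subsingleton
    exact not_mem_support_of_span _ hq hft 0 x hW (fun _ => 0) hxW (Subsingleton.elim _ _)

end Groth.Agent.SDiv.K474.FittOmega
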