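import Groth.Agent.SDiv.K474.FittSheaf
import Groth.Agent.Fitt.K360.LocFree
import Groth.Agent.Ega2.BasSec
import Groth.Agent.CohqB.AlgMod
import Groth.Agent.FormalB.QcSect

/-!
# Fitting ideal sheaves, local generators and local freeness

* `mem_support_iff_le`, `exists_span_of_not_mem_support`, `not_mem_support_of_span`
* `generated_iff`: `F` is generated by `r` sections near `s` iff `s ∉ V(Fit_r F)`
* `isFinLocFreeOfRank_iff`: finite locally free of rank `r` iff `Fit_k = 0` (`k < r`) and `Fit_k = ⊤` (`k ≥ r`).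
-/

set_option autoImplicit false
universe u

open CategoryTheory CategoryTheory.Limits AlgebraicGeometry TopologicalSpace Opposite

namespace Groth.Agent.SDiv.K474.FittLoc

open CohqA.BaseChangeMod FittSheaf Ega2.BasSec Fdesc.LocGen Fdesc.QCohStalk
open K360.FittBasic K360.FittFiber K360.FittLocFree

section Alg

variable {A B : Type u} [CommRing A] [CommRing B] {φ : A →+* B} {M N : Type u} [AddCommGroup M]
  [Module A M] [AddCommGroup N] [Module B N] {f : M →+ N}

theorem span_of_isBC (h : IsBC φ f) {ι : Type*} (e : ι → M)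
    (he : Submodule.span A (Set.range e) = ⊤) :
    Submodule.span B (Set.range fun i => f (e i)) = ⊤ := by
  set P := Submodule.span B (Set.range fun i => f (e i)) with hP
  have h0 : ∀ x : M, P.mkQ (f x) = 0 := by
    intro x
    have hx : x ∈ Submodule.span A (Set.range e) := he ▸ trivial
    induction hx using Submodule.span_induction with
    | mem z hz =>
      obtain ⟨i, rfl⟩ := hz
      rw [Submodule.mkQ_apply, Submodule.Quotient.mk_eq_zero]
      exact Submodule.subset_span ⟨i, rfl⟩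
    | zero => simp
    | add z w _ _ hz hw => rw [map_add, map_add, hz, hw, add_zero]
    | smul c z _ hz => rw [h.map_smul, map_smul, hz, smul_zero]
  have h1 : P.mkQ = 0 := h.hom_ext fun x => (h0 x).trans rfl
  rw [← P.ker_mkQ, h1, LinearMap.ker_zero]

end Alg

variable {X : Scheme.{u}}

theorem mem_support_iff_le (I : X.IdealSheafData) {U : X.Opens} (hU : IsAffineOpen U) {x : X}
    (hx : x ∈ U) :
    x ∈ I.support ↔ I.ideal ⟨U, hU⟩ ≤ (hU.primeIdealOf ⟨x, hx⟩).asIdeal := by
  rw [Scheme.IdealSheafData.mem_support_iff_of_mem (U := ⟨U, hU⟩) hx]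
  constructor
  · intro h g hg
    by_contra hn
    exact (Scheme.mem_zeroLocus_iff _ _ _).1 h g hg ((mem_basicOpen_iff hU x hx g).2 hn)
  · intro h
    rw [Scheme.mem_zeroLocus_iff]
    intro g hg hn
    exact (mem_basicOpen_iff hU x hx g).1 hn (h hg)

theorem surjective_comb_iff {n : ℕ} {M : X.Modules} {V : X.Opens} (e : Fin n → Γ(M, V)) :
    Function.Surjective (comb e) ↔ Submodule.span Γ(X, V) (Set.range e) = ⊤ := by
  rw [Submodule.eq_top_iff']
  simp only [Submodule.mem_span_range_iff_exists_fun]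
  rfl

section

variable (F : X.Modules) (hF : Coh.IsQCoh F)

include hF in
/-- Generators of the sections over an affine open generate over every smaller affine open. -/
theorem span_res {U V : X.Opens} (hU : IsAffineOpen U) (hV : IsAffineOpen V) (h : V ≤ U)
    {n : ℕ} (e : Fin n → Γ(F, U)) (he : Submodule.span Γ(X, U) (Set.range e) = ⊤) :
    Submodule.span Γ(X, V) (Set.range fun i => res F h (e i)) = ⊤ := by
  have := hF
  exact span_of_isBC (isBC_res F hU hV h) e he

include hF in
/-- `n` elements which generate up to the powers of `f` generate over `D(f)`. -/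
theorem span_basicOpen {U : X.Opens} (hU : IsAffineOpen U) (f : Γ(X, U)) {n : ℕ}
    (m : Fin n → Γ(F, U)) (hm : ∀ x : Γ(F, U), f • x ∈ Submodule.span Γ(X, U) (Set.range m)) :
    Submodule.span Γ(X, X.basicOpen f)
      (Set.range fun i => res F (X.basicOpen_le f) (m i)) = ⊤ := by
  rw [Submodule.eq_top_iff']
  intro y
  obtain ⟨k, s, hs⟩ := exists_map_eq_pow_smul F hU hF f y
  have hu : IsUnit (X.presheaf.map (homOfLE (X.basicOpen_le f)).op f) :=
    RingedSpace.isUnit_res_basicOpen _ f
  obtain ⟨c, hc⟩ := Submodule.mem_span_range_iff_exists_fun _ |>.1 (hm s)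
  have h1 : (X.presheaf.map (homOfLE (X.basicOpen_le f)).op f) ^ (k + 1) • y ∈
      Submodule.span Γ(X, X.basicOpen f)
        (Set.range fun i => res F (X.basicOpen_le f) (m i)) := by
    rw [pow_succ', mul_smul, ← hs]
    have h2 := congrArg (res F (X.basicOpen_le f)) hc
    rw [map_sum, res_smul] at h2
    rw [show F.presheaf.map (homOfLE (X.basicOpen_le f)).op s = res F (X.basicOpen_le f) s from rfl,
      show X.presheaf.map (homOfLE (X.basicOpen_le f)).op f = ores (X.basicOpen_le f) f from rfl,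
      ← h2]
    refine Submodule.sum_mem _ fun i _ => ?_
    rw [res_smul]
    exact Submodule.smul_mem _ _ (Submodule.subset_span ⟨i, rfl⟩)
  obtain ⟨v, hv⟩ := hu.pow (k + 1)
  rw [← hv] at h1
  have h3 := Submodule.smul_mem _ (↑v⁻¹ : Γ(X, X.basicOpen f)) h1
  rwa [smul_smul, Units.inv_mul, one_smul] at h3

variable (hft : CohB1.IsFT F)

include hF hft in
theorem exists_span_of_not_mem_support (r : ℕ) (x : X) (hx : x ∉ (Fitt.sheafIdeal F r).support)
    (W : X.Opens) (hxW : x ∈ W) : ∃ (U : X.Opens) (_ : IsAffineOpen U) (e : Fin r → Γ(F, U)),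
      x ∈ U ∧ U ≤ W ∧ Submodule.span Γ(X, U) (Set.range e) = ⊤ := by
  obtain ⟨V, hV, hxV, hVW⟩ := exists_isAffineOpen_mem_and_subset (x := x) (U := W) hxW
  have := hF
  have := CohqB.FiniteType2.finite_sections_of_isFT F hft hV
  rw [mem_support_iff_le _ hV hxV, sheafIdeal_ideal F hF hft, not_le_prime_iff_finrank] at hx
  obtain ⟨m, f, hf, hm⟩ := exists_generators_of_finrank_le r _ hx
  refine ⟨X.basicOpen f, hV.basicOpen f, _, (mem_basicOpen_iff hV x hxV f).2 hf,
    (X.basicOpen_le f).trans hVW, span_basicOpen F hF hV f m hm⟩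

include hF hft in
theorem not_mem_support_of_span (r : ℕ) (x : X) {U : X.Opens} (hU : IsAffineOpen U)
    (e : Fin r → Γ(F, U)) (hx : x ∈ U) (he : Submodule.span Γ(X, U) (Set.range e) = ⊤) :
    x ∉ (Fitt.sheafIdeal F r).support := by
  rw [mem_support_iff_le _ hU hx, sheafIdeal_ideal F hF hft,
    ideal_eq_top_of_card_le e he (by simp)]
  intro h
  exact (hU.primeIdealOf ⟨x, hx⟩).2.ne_top (top_le_iff.1 h)

include hF in
/-- Generators of the sections over an affine open give an epimorphism. -/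
theorem exists_epi_of_span (r : ℕ) {U : X.Opens} (hU : IsAffineOpen U)
    (e : Fin r → Γ(F, U)) (he : Submodule.span Γ(X, U) (Set.range e) = ⊤) :
    ∃ π : FlatMod.freeMod (↑U) r ⟶ F.restrict U.ι, Epi π := by
  have hUt : U.ι ''ᵁ ⊤ ≤ U := by simp
  have : IsAffine (U : Scheme.{u}) := hU
  have hq : Coh.IsQCoh (F.restrict U.ι) := restrict_isQCoh F hF U.ι
  let e' : Fin r → Γ(F.restrict U.ι, ⊤) := fun i => toRestrict U.ι (res F hUt (e i))
  refine ⟨homOfFam e', CohqB.AlgMod.epi_of_surjective_affine _ fun V hV => ?_⟩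
  have h1 : Function.Surjective (comb (fun i => res F ((U.ι.image_mono le_top).trans hUt :
      U.ι ''ᵁ V ≤ U) (e i))) := by
    rw [surjective_comb_iff]
    exact span_res F hF hU (hV.image_of_isOpenImmersion U.ι) _ e he
  intro y
  obtain ⟨a, ha⟩ := h1 ((toRestrict U.ι).symm y)
  refine ⟨comb (stdSec U r V) (fun i => (U.ι.appIso V).hom (a i)), ?_⟩
  rw [app_comb]
  simp only [homOfFam_stdSec]
  have h2 := congrArg (toRestrict U.ι) ha
  rw [toRestrict_comb, AddEquiv.apply_symm_apply] at h2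
  rw [← h2]
  congr 1
  funext i
  change res (F.restrict U.ι) le_top (toRestrict U.ι (res F hUt (e i))) = _
  rw [res_toRestrict, res_res]

include hF in
/-- An epimorphism from a free module gives generators of the sections. -/
theorem exists_span_of_epi (r : ℕ) {U : X.Opens} (π : FlatMod.freeMod (↑U) r ⟶ F.restrict U.ι)
    [Epi π] (x : X) (hx : x ∈ U) : ∃ (V : X.Opens) (_ : IsAffineOpen V) (e : Fin r → Γ(F, V)),
      x ∈ V ∧ V ≤ U ∧ Submodule.span Γ(X, V) (Set.range e) = ⊤ := by
  have hq : Coh.IsQCoh (F.restrict U.ι) := restrict_isQCoh F hF U.ι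
  have hq' : Coh.IsQCoh (FlatMod.freeMod (↑U) r) := Ega2.QCohLocal.isQCoh_freeMod _ _
  have : (F.restrict U.ι).IsQuasicoherent := hq
  have : (FlatMod.freeMod (↑U) r).IsQuasicoherent := hq'
  obtain ⟨V, hV, hxV, -⟩ := exists_isAffineOpen_mem_and_subset (X := (U : Scheme.{u}))
    (x := ⟨x, hx⟩) (U := ⊤) trivial
  have h1 := FormalB.QcSect.surjective_app_of_epi π hV
  refine ⟨U.ι ''ᵁ V, hV.image_of_isOpenImmersion U.ι,
    fun i => (toRestrict U.ι).symm (π.app V (stdSec U r V i)), ⟨⟨x, hx⟩, hxV, rfl⟩, by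
      simpa using U.ι.image_mono (le_top : V ≤ ⊤), ?_⟩
  rw [← surjective_comb_iff]
  intro y
  obtain ⟨z, hz⟩ := h1 (toRestrict U.ι y)
  obtain ⟨a, rfl⟩ := (isBas_stdSec (U : Scheme.{u}) r V).bijective.2 z
  refine ⟨fun i => (U.ι.appIso V).inv (a i), ?_⟩
  apply (toRestrict U.ι).injective
  rw [toRestrict_comb, ← hz, app_comb]
  congr 1
  funext i
  simp only [CommRingCat.hom_comp, RingHom.coe_comp, Function.comp_apply, Iso.inv_hom_id_apply]

include hF hft in
theorem generated_iff (s : X) (r : ℕ) :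
    (∃ U : X.Opens, s ∈ U ∧ ∃ π : FlatMod.freeMod (↑U) r ⟶ F.restrict U.ι, Epi π) ↔
      s ∉ (Fitt.sheafIdeal F r).support := by
  constructor
  · rintro ⟨U, hs, π, hπ⟩
    obtain ⟨V, hV, e, hsV, -, he⟩ := exists_span_of_epi F hF r π s hs
    exact not_mem_support_of_span F hF hft r s hV e hsV he
  · intro h
    obtain ⟨U, hU, e, hs, -, he⟩ := exists_span_of_not_mem_support F hF hft r s h ⊤ trivial
    obtain ⟨π, hπ⟩ := exists_epi_of_span F hF r hU e he
    exact ⟨U, hs, π, hπ⟩

theorem exists_affine_isBas {r : ℕ} (h : FlatMod.IsFinLocFreeOfRank r F) (x : X) :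
    ∃ (U : X.Opens) (_ : IsAffineOpen U) (b : Module.Basis (Fin r) Γ(X, U) Γ(F, U)),
      x ∈ U ∧ IsBas (M := F) (U := U) b := by
  obtain ⟨U, e, hx, he⟩ := (isFinLocFreeOfRank_iff F r).1 h x
  obtain ⟨V, hV, hxV, hVU⟩ := exists_isAffineOpen_mem_and_subset (x := x) (U := U) hx
  obtain ⟨b, hb⟩ := (comb_bijective_iff _).1 (he.res hVU).bijective
  exact ⟨V, hV, b, hxV, by rw [hb]; exact he.res hVU⟩

include hF hft in
theorem isFinLocFreeOfRank_of_fitting (r : ℕ) (h0 : ∀ k : ℕ, k < r → Fitt.sheafIdeal F k = ⊥)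
    (h1 : ∀ x, x ∉ (Fitt.sheafIdeal F r).support) : FlatMod.IsFinLocFreeOfRank r F := by
  rw [isFinLocFreeOfRank_iff]
  intro x
  obtain ⟨U, hU, e, hs, -, he⟩ := exists_span_of_not_mem_support F hF hft r x (h1 x) ⊤ trivial
  refine ⟨U, e, hs, isBas_of_bijective hF hU ?_⟩
  have hli := linearIndependent_of_ideal_eq_bot e he (fun k hk => by
    have := sheafIdeal_ideal F hF hft k ⟨U, hU⟩
    rw [h0 k (by simpa using hk)] at this
    exact this.symm.trans rfl)
  exact (comb_bijective_iff e).2 ⟨Module.Basis.mk hli he.ge, by simp⟩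

include hF hft in
/-- **Finite locally free of rank `r`** iff `Fit_k(F) = 0` for `k < r` and `Fit_k(F) = O` for `k ≥ r`. -/
theorem isFinLocFreeOfRank_iff_fitting (r : ℕ) :
    FlatMod.IsFinLocFreeOfRank r F ↔
      (∀ k : ℕ, k < r → Fitt.sheafIdeal F k = ⊥) ∧ (∀ k : ℕ, r ≤ k → Fitt.sheafIdeal F k = ⊤) := by
  constructor
  · intro h
    constructor
    · intro k hk
      refine Divis.IdealComap.ext_of_forall_mem fun x => ?_
      obtain ⟨U, hU, b, hx, -⟩ := exists_affine_isBas F h x
      refine ⟨⟨U, hU⟩, hx, ?_⟩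
      rw [sheafIdeal_ideal F hF hft, ideal_eq_bot_of_basis b (by simpa using hk)]
      rfl
    · intro k hk
      refine Divis.IdealComap.ext_of_forall_mem fun x => ?_
      obtain ⟨U, hU, b, hx, -⟩ := exists_affine_isBas F h x
      refine ⟨⟨U, hU⟩, hx, ?_⟩
      rw [sheafIdeal_ideal F hF hft, ideal_eq_top_of_basis b (by simpa using hk)]
      rfl
  · rintro ⟨h0, h1⟩
    refine isFinLocFreeOfRank_of_fitting F hF hft r h0 fun x => ?_
    rw [h1 r le_rfl, Scheme.IdealSheafData.support_top]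
    exact fun h => h

include hF hft in
theorem exists_not_mem_support (s : X) : ∃ r : ℕ, s ∉ (Fitt.sheafIdeal F r).support := by
  obtain ⟨V, hV, hxV, -⟩ := exists_isAffineOpen_mem_and_subset (x := s) (U := ⊤) trivial
  have := hF
  have := CohqB.FiniteType2.finite_sections_of_isFT F hft hV
  obtain ⟨n, x, hx⟩ := Module.Finite.exists_fin (R := Γ(X, V)) (M := Γ(F, V))
  exact ⟨n, not_mem_support_of_span F hF hft n s hV x hxV hx⟩

end

end Groth.Agent.SDiv.K474.FittLoc
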