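import Groth.Prelude.Def_Fitting
import Groth.Agent.Fitt.K360.Basic
import Groth.Agent.CohqB.FiniteType2
import Groth.Agent.CohqA.PullbackQCoh
import Groth.Agent.Divis.IdealComap

/-!
# Affine values of the Fitting ideal sheaves

* `ideal_of_isBC`: Fitting ideals under base change (unbundled form).
* `sheafIdeal_ideal`: for `F` quasi-coherent of finite type and `U` affine,
  `(Fitt.sheafIdeal F r).ideal U = Fitt.ideal Γ(X, U) Γ(F, U) r`.
* `sheafIdeal_comap`: `f⁻¹ Fit_r(F) · O_X = Fit_r(f^* F)`.
* `isFT_pullback`: the pullback of a quasi-coherent module of finite type is of finite type.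
-/

set_option autoImplicit false
universe u

open CategoryTheory CategoryTheory.Limits AlgebraicGeometry TopologicalSpace Opposite

namespace Groth.Agent.SDiv.K474.FittSheaf

open CohqA.PullbackUniv CohqA.BaseChangeMod CohqA.PullbackAffine CohqA.PullbackSections
  CohqA.PullbackQCoh

open scoped TensorProduct

section Alg

variable {A B : Type u} [CommRing A] [CommRing B] {φ : A →+* B} {M N : Type u} [AddCommGroup M]
  [Module A M] [AddCommGroup N] [Module B N] {f : M →+ N}

theorem exists_equiv_tensor (h : IsBC φ f) :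
    let := φ.toAlgebra
    Nonempty (N ≃ₗ[B] B ⊗[A] M) := by
  let := φ.toAlgebra
  have h' : IsBC φ (TensorProduct.mk A B M 1).toAddMonoidHom :=
    (isBC_iff_isBaseChange (TensorProduct.mk A B M 1)).2 (TensorProduct.isBaseChange A M B)
  obtain ⟨e, -⟩ := h.exists_equiv h'
  exact ⟨e⟩

theorem finite_of_isBC (h : IsBC φ f) [Module.Finite A M] : Module.Finite B N := by
  let := φ.toAlgebra
  obtain ⟨e⟩ := exists_equiv_tensor h
  exact Module.Finite.equiv e.symm

theorem ideal_of_isBC (h : IsBC φ f) [Module.Finite A M] (r : ℕ) :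
    Fitt.ideal B N r = (Fitt.ideal A M r).map φ := by
  let := φ.toAlgebra
  obtain ⟨e⟩ := exists_equiv_tensor h
  have := finite_of_isBC h
  rw [K360.FittBasic.ideal_congr e]
  exact K360.FittBasic.ideal_baseChange B r

end Alg

variable {X Y : Scheme.{u}}

theorem id_appLE_eq {U V : X.Opens} (h : V ≤ U) :
    (𝟙 X : X ⟶ X).appLE U V h = X.presheaf.map (homOfLE h).op := by
  simp only [Scheme.Hom.appLE, Scheme.Hom.id_app]
  exact Category.id_comp _

theorem isUniv_id (F : X.Modules) :
    IsUniv (𝟙 X) ((Scheme.Modules.pushforwardId X).inv.app F) := by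
  intro G
  have h : (fun φ : F ⟶ G => (Scheme.Modules.pushforwardId X).inv.app F ≫
      (Scheme.Modules.pushforward (𝟙 X)).map φ) =
      fun φ => φ ≫ (Scheme.Modules.pushforwardId X).inv.app G := by
    funext φ
    exact ((Scheme.Modules.pushforwardId X).inv.naturality φ).symm
  rw [h]
  constructor
  · intro φ ψ hφ
    exact (cancel_mono _).1 hφ
  · intro ψ
    exact ⟨ψ ≫ (Scheme.Modules.pushforwardId X).hom.app G, by
      dsimp only
      rw [Category.assoc, ← NatTrans.comp_app, Iso.hom_inv_id, NatTrans.id_app]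
      exact Category.comp_id _⟩

/-- Restriction of sections of a quasi-coherent module between affine opens is a base change. -/
theorem isBC_res (F : X.Modules) [hF : Coh.IsQCoh F] {U V : X.Opens} (hU : IsAffineOpen U)
    (hV : IsAffineOpen V) (h : V ≤ U) :
    IsBC (X.presheaf.map (homOfLE h).op).hom (F.presheaf.map (homOfLE h).op).hom := by
  have : F.IsQuasicoherent := hF
  have h1 := isBC_secMap (M := F) (N := F) (𝟙 X)
    ((Scheme.Modules.pushforwardId X).inv.app F) (isUniv_id F) hU hV h
  rw [id_appLE_eq] at h1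
  have h2 : secMap (𝟙 X) ((Scheme.Modules.pushforwardId X).inv.app F) U V h =
      F.presheaf.map (homOfLE h).op := by
    exact Category.id_comp _
  rw [h2] at h1
  exact h1

/-- The Fitting ideals of the modules of sections form an ideal sheaf. -/
noncomputable def fitData (F : X.Modules) (hF : Coh.IsQCoh F) (hft : CohB1.IsFT F) (r : ℕ) :
    X.IdealSheafData where
  ideal U := Fitt.ideal Γ(X, U.1) Γ(F, U.1) r
  map_ideal_basicOpen U f := by
    have := hF
    have := CohqB.FiniteType2.finite_sections_of_isFT F hft U.2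
    have := isBC_res F U.2 (X.affineBasicOpen f).2 (X.basicOpen_le f)
    exact (ideal_of_isBC this r).symm

/-- **Affine values of the Fitting ideal sheaf**. -/
theorem sheafIdeal_ideal (F : X.Modules) (hF : Coh.IsQCoh F) (hft : CohB1.IsFT F) (r : ℕ)
    (U : X.affineOpens) :
    (Fitt.sheafIdeal F r).ideal U = Fitt.ideal Γ(X, U.1) Γ(F, U.1) r :=
  congrArg (fun I : X.IdealSheafData => I.ideal U)
    (Scheme.IdealSheafData.ofIdeals_ideal (fitData F hF hft r))

/-- The pullback of a quasi-coherent module of finite type is of finite type. -/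
theorem isFT_pullback (f : X ⟶ Y) (F : Y.Modules) (hF : Coh.IsQCoh F) (hft : CohB1.IsFT F) :
    CohB1.IsFT ((Scheme.Modules.pullback f).obj F) := by
  have : F.IsQuasicoherent := hF
  have : Coh.IsQCoh F := hF
  have : Coh.IsQCoh ((Scheme.Modules.pullback f).obj F) := isQuasicoherent_pullback f F
  choose W V hW hV hxV e using exists_affine_pair f
  refine (CohqB.FiniteType2.isFT_iff_finite_sections_of_cover _ V hV
    (top_le_iff.1 fun x _ => Opens.mem_iSup.2 ⟨x, hxV x⟩)).2 fun x => ?_
  have := CohqB.FiniteType2.finite_sections_of_isFT F hft (hW x)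
  exact finite_of_isBC (isBC_pbSec f F (hW x) (hV x) (e x))

/-- **Fitting ideals commute with pullback.** -/
theorem sheafIdeal_comap (f : X ⟶ Y) (F : Y.Modules) (hF : Coh.IsQCoh F) (hft : CohB1.IsFT F)
    (r : ℕ) : (Fitt.sheafIdeal F r).comap f =
      Fitt.sheafIdeal ((Scheme.Modules.pullback f).obj F) r := by
  have : F.IsQuasicoherent := hF
  have : Coh.IsQCoh F := hF
  have hq : Coh.IsQCoh ((Scheme.Modules.pullback f).obj F) := isQuasicoherent_pullback f F
  refine Divis.IdealComap.ext_of_forall_mem fun x => ?_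
  obtain ⟨U, V, hU, hV, hyV, hVU⟩ := exists_affine_pair f x
  refine ⟨⟨V, hV⟩, hyV, ?_⟩
  rw [Divis.IdealComap.ideal_comap _ f ⟨U, hU⟩ ⟨V, hV⟩ hVU, sheafIdeal_ideal F hF hft,
    sheafIdeal_ideal _ hq (isFT_pullback f F hF hft)]
  have := CohqB.FiniteType2.finite_sections_of_isFT F hft hU
  exact (ideal_of_isBC (isBC_pbSec f F hU hV hVU) r).symm

end Groth.Agent.SDiv.K474.FittSheaf
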