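import Groth.Agent.SDiv.K474.FittBlow
import Groth.Agent.Models2.FPCoh
import Groth.Agent.Desc.FPSections
import Groth.Agent.PerfA.QCohSerre

/-!
# Kernels of surjections onto locally free modules; schematically dense opens

* `isFP_kernel`: the kernel of an epimorphism from a finitely presented module onto a finite locally free module
  is finitely presented.
* `eq_bot_of_isSchematicallyDense`: an ideal sheaf vanishing on a schematically dense open is zero.
* `disjoint_support_of_comap_eq_top`.
* `isZero_restrict_kernel`.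
-/

set_option autoImplicit false
universe u

open CategoryTheory CategoryTheory.Limits AlgebraicGeometry TopologicalSpace Opposite

namespace Groth.Agent.SDiv.K474.FittBlow2

open FittSheaf FittLoc FittBlow Ega2.BasSec Fdesc.LocGen Fdesc.QCohStalk
open CohqB.FiniteType2 Divis.IdealComap

variable {X Y : Scheme.{u}}

theorem isFP_kernel {H G : X.Modules} (hH : CohB1.IsFP H) {r : ℕ}
    (hG : FlatMod.IsFinLocFreeOfRank r G) (π : H ⟶ G) [Epi π] : CohB1.IsFP (kernel π) := by
  have hq := Models2.FPCoh.isQCoh_of_isFP hH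
  have hqG : Coh.IsQCoh G := Ega2.QCohLocal.isQCoh_of_isFinLocFree (Ega2.QCohLocal.isFinLocFree_of_rank hG)
  have hqK : Coh.IsQCoh (kernel π) := PerfA.QCohSerre.isQCoh_kernel π hq hqG
  have : H.IsQuasicoherent := hq
  have : G.IsQuasicoherent := hqG
  rw [Desc.FPSections.isFP_iff_of_cover hqK (fun V => Module.Free Γ(X, V) Γ(G, V)) fun x => by
    obtain ⟨U, hU, b, hx, -⟩ := exists_affine_isBas G hG x
    exact ⟨U, Module.Free.of_basis b, hU, hx⟩]
  intro V hfree hV
  have := Desc.FPSections.finitePresentation_sections hV hq hH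
  refine Module.finitePresentation_of_projective_of_exact (appLinear (kernel.ι π) V) (appLinear π V)
    (appLinear_injective (kernel.ι π) V) (FormalB.QcSect.surjective_app_of_epi π hV) ?_
  exact sections_exact (ShortComplex.mk (kernel.ι π) π (kernel.condition π)) (ShortComplex.exact_kernel π) V

theorem finitePresentation_of_isBC {A B : Type u} [CommRing A] [CommRing B] {φ : A →+* B} {M N : Type u}
    [AddCommGroup M] [Module A M] [AddCommGroup N] [Module B N] {f : M →+ N}
    (h : CohqA.BaseChangeMod.IsBC φ f) [Module.FinitePresentation A M] : Module.FinitePresentation B N := by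
  let := φ.toAlgebra
  obtain ⟨e⟩ := exists_equiv_tensor h
  exact Module.FinitePresentation.of_equiv e.symm

/-- The pullback of a finitely presented module is finitely presented. -/
theorem isFP_pullback (f : X ⟶ Y) {F : Y.Modules} (hF : CohB1.IsFP F) :
    CohB1.IsFP ((Scheme.Modules.pullback f).obj F) := by
  have hq := Models2.FPCoh.isQCoh_of_isFP hF
  have : F.IsQuasicoherent := hq
  have hq' : Coh.IsQCoh ((Scheme.Modules.pullback f).obj F) :=
    CohqA.PullbackQCoh.isQuasicoherent_pullback f F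
  rw [Desc.FPSections.isFP_iff_of_cover hq' (fun V => ∃ U : Y.Opens, IsAffineOpen U ∧ V ≤ f ⁻¹ᵁ U)
    fun x => by
      obtain ⟨U, V, hU, hV, hyV, hVU⟩ := CohqA.PullbackQCoh.exists_affine_pair f x
      exact ⟨V, ⟨U, hU, hVU⟩, hV, hyV⟩]
  rintro V ⟨U, hU, hVU⟩ hV
  have := Desc.FPSections.finitePresentation_sections hU hq hF
  exact finitePresentation_of_isBC (CohqA.PullbackQCoh.isBC_pbSec f F hU hV hVU)

theorem isZero_of_affine {M : X.Modules}
    (h : ∀ (U : X.Opens), IsAffineOpen U → ∀ m : Γ(M, U), m = 0) : IsZero M := by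
  rw [IsZero.iff_id_eq_zero]
  apply CohqB.AlgMod.hom_ext_affine
  intro U hU m
  rw [h U hU m, map_zero, map_zero]

theorem eq_bot_of_isSchematicallyDense {U : X.Opens} (hU : CInt.IsSchematicallyDense U)
    {I : X.IdealSheafData} (h : I.comap U.ι = ⊥) : I = ⊥ := by
  refine ext_of_forall_mem fun x => ?_
  obtain ⟨V, hV, hxV, -⟩ := exists_isAffineOpen_mem_and_subset (x := x) (U := ⊤) trivial
  refine ⟨⟨V, hV⟩, hxV, ?_⟩
  have h0 : (⊥ : X.IdealSheafData).ideal ⟨V, hV⟩ = ⊥ := rfl
  rw [h0, eq_bot_iff]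
  intro c hc
  refine (Submodule.mem_bot _).2 (hU V ?_)
  rw [map_zero]
  change ores (inf_le_left : V ⊓ U ≤ V) c = 0
  refine ores_ext (fun W : {W : X.Opens // IsAffineOpen W ∧ W ≤ V ⊓ U} => W.1) (fun W => W.2.2) ?_
    fun W => ?_
  · intro y hy
    obtain ⟨W, hW, hyW, hWV⟩ := exists_isAffineOpen_mem_and_subset (x := y) (U := V ⊓ U) hy
    exact Opens.mem_iSup.2 ⟨⟨W, hW, hWV⟩, hyW⟩
  · have h1 := res_eq_zero_of_comap_eq_bot I U h ⟨V, hV⟩ c hc ⟨W.1, W.2.1⟩ (W.2.2.trans inf_le_left)
      (W.2.2.trans inf_le_right)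
    rw [map_zero]
    change X.presheaf.map (homOfLE W.2.2).op (X.presheaf.map (homOfLE inf_le_left).op c) = 0
    rw [← CommRingCat.comp_apply, ← Functor.map_comp]
    exact h1

theorem disjoint_support_of_comap_eq_top {U : X.Opens} {I : X.IdealSheafData} (h : I.comap U.ι = ⊤) :
    Disjoint (I.support : Set X) (U : Set X) := by
  rw [Set.disjoint_left]
  intro x hx hxU
  have h1 : (⟨x, hxU⟩ : U) ∈ (I.comap U.ι).support := by
    rw [Scheme.IdealSheafData.support_comap]
    exact hx
  rw [h, Scheme.IdealSheafData.support_top] at h1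
  exact h1

/-- If `I` is the unit ideal on the affine open `V`, then only zero is killed by a power of `I`. -/
theorem eq_zero_of_killed {E : X.IdealSheafData} (H : X.Modules) (V : X.affineOpens)
    (hV : Disjoint (E.support : Set X) (V.1 : Set X)) (m : Γ(H, V.1))
    (h : BlowUp.KilledByPowerNear E H V m) : m = 0 := by
  have h1 : E.ideal V = ⊤ := by
    by_contra hcon
    obtain ⟨p, hp, hle⟩ := Ideal.exists_le_maximal _ hcon
    let y := V.2.fromSpec ⟨p, hp.isPrime⟩
    have hy : y ∈ V.1 := by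
      have := V.2.range_fromSpec
      exact this.le ⟨_, rfl⟩
    refine Set.disjoint_left.1 hV ((mem_support_iff_le E V.2 hy).2 ?_) hy
    have h2 : V.2.primeIdealOf ⟨y, hy⟩ = ⟨p, hp.isPrime⟩ := by
      have := V.2.isOpenImmersion_fromSpec
      apply V.2.fromSpec.isOpenEmbedding.injective
      exact V.2.fromSpec_primeIdealOf ⟨y, hy⟩
    rw [h2]
    exact hle
  obtain ⟨n, hn⟩ := h
  have h2 := hn 1 (by
    rw [Scheme.IdealSheafData.ideal_pow, Pi.pow_apply, h1, Ideal.top_pow]
    trivial)
  rwa [one_smul] at h2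

theorem isZero_restrict_kernel {E : X.IdealSheafData} {H G : X.Modules} (π : H ⟶ G)
    (hπ : ∀ (V : X.affineOpens) (m : Γ(H, V.1)), π.app V.1 m = 0 ↔ BlowUp.KilledByPowerNear E H V m)
    (W : X.Opens) (hW : Disjoint (E.support : Set X) (W : Set X)) :
    IsZero ((kernel π).restrict W.ι) := by
  apply isZero_of_affine
  intro U hU m
  apply (toRestrict W.ι).symm.injective
  rw [map_zero]
  have hU' : IsAffineOpen (W.ι ''ᵁ U) := hU.image_of_isOpenImmersion W.ι
  apply appLinear_injective (kernel.ι π) (W.ι ''ᵁ U)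
  rw [map_zero]
  refine eq_zero_of_killed (E := E) H ⟨_, hU'⟩ ?_ _ ((hπ ⟨_, hU'⟩ _).1 ?_)
  · refine Disjoint.mono_right ?_ hW
    have h1 : W.ι ''ᵁ U ≤ W := by simpa using W.ι.image_mono (le_top : U ≤ ⊤)
    exact h1
  · exact CohqB.QC4.app_comp_eq_zero (S := ShortComplex.mk (kernel.ι π) π (kernel.condition π)) _ _

end Groth.Agent.SDiv.K474.FittBlow2
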