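import Groth.Agent.SDiv.K474.FittOmega
import Groth.Agent.Dual.H318.PureDim
import Groth.Agent.VarietyB.DimTop
import Groth.Agent.S2156
import Groth.Agent.S2063

/-!
# Fitting ideals of `Ω` and smoothness
-/

set_option autoImplicit false
universe u

open CategoryTheory CategoryTheory.Limits AlgebraicGeometry TopologicalSpace Opposite

namespace Groth.Agent.SDiv.K474.FittOmega2

open FittSheaf FittLoc FittBlow FittOmega Ega2.BasSec Fdesc.LocGen Fdesc.QCohStalk CurvesB.OmegaDer
open CohqB.FiniteType2 Divis.IdealComap Vancyc.H878.OmegaRank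
open scoped TensorProduct

variable {X Y : Scheme.{u}}

theorem isSmoothAt_iff {A B : Type u} [CommRing A] [CommRing B] [Algebra A B] (hA : IsField A)
    [Algebra.FiniteType A B] (q : Ideal B) [q.IsPrime] (d : ℕ)
    (hd : FlatMor.localDim (PrimeSpectrum B) ⟨q, inferInstance⟩ = d) :
    Algebra.IsSmoothAt A q ↔ Module.finrank q.ResidueField (q.ResidueField ⊗[B] Ω[B⁄A]) ≤ d := by
  let := hA.toField
  have h := Groth.Agent.S2063.result (k := A) (S := B) q
  rw [hd] at h
  rw [h]
  norm_cast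

set_option backward.isDefEq.respectTransparency.types false in
theorem smooth_iff (f : X ⟶ Y) {U : Y.Opens} {V : X.Opens} (e : V ≤ f ⁻¹ᵁ U)
    (hU : IsAffineOpen U) (hV : IsAffineOpen V) :
    Smooth (V.ι ≫ f) ↔ (f.appLE U V e).hom.Smooth :=
  ι_comp_iff @Smooth (fun _ _ => inferInstance) f e hU hV

/-- Smoothness near a point. -/
theorem mem_smoothLocus_iff_exists (f : X ⟶ Y) [LocallyOfFinitePresentation f] (x : X) :
    x ∈ f.smoothLocus ↔ ∃ U : X.Opens, x ∈ U ∧ Smooth (U.ι ≫ f) := by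
  constructor
  · intro h
    obtain ⟨U, hU, V, hV, e, hx, hs⟩ := exists_smooth_of_formallySmooth_stalk f x h
    exact ⟨V, hx, (smooth_iff f e hU hV).2 hs⟩
  · rintro ⟨U, hx, hU⟩
    have h1 : (⟨x, hx⟩ : U) ∈ (U.ι ≫ f).smoothLocus := by
      rw [Scheme.Hom.smoothLocus_eq_top]; trivial
    rw [← Scheme.Hom.preimage_smoothLocus_eq] at h1
    exact h1

/-- Smoothness at a point of a scheme over a field, through the Fitting ideals of `Ω`. -/
theorem mem_smoothLocus_iff_of_isField {K : CommRingCat.{u}} (hK : IsField K) (φ : X ⟶ Spec K)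
    [LocallyOfFinitePresentation φ] [QuasiCompact (pullback.diagonal φ)] (d : ℕ) (z : X)
    (hd : FlatMor.localDim X z = d) :
    z ∈ φ.smoothLocus ↔ z ∉ (Fitt.sheafIdeal (Omega.sheaf φ) d).support := by
  have hft := isFT_omega φ
  have hq : Coh.IsQCoh (Omega.sheaf φ) := isQCoh_omega φ
  obtain ⟨V, hV, hzV, -⟩ := exists_isAffineOpen_mem_and_subset (x := z) (U := ⊤) trivial
  have hU : IsAffineOpen (⊤ : (Spec K).Opens) := isAffineOpen_top _
  have e : V ≤ φ ⁻¹ᵁ ⊤ := le_top
  rw [Scheme.Hom.mem_smoothLocus, formallySmooth_stalkMap_iff ⊤ hU V hV e hzV]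
  let := algX φ e
  have hA : IsField Γ(Spec K, ⊤) :=
    (Scheme.ΓSpecIso K).commRingCatIsoToRingEquiv.toMulEquiv.isField hK
  have h1 : Algebra.FiniteType Γ(Spec K, ⊤) Γ(X, V) :=
    LocallyOfFiniteType.finiteType_appLE φ hU hV e
  have h2 : FlatMor.localDim (PrimeSpectrum Γ(X, V)) (hV.primeIdealOf ⟨z, hzV⟩) = d := by
    have := hV.isOpenImmersion_fromSpec
    rw [← hd]
    refine (VarietyB.DimTop.localDim_eq_of_isOpenEmbedding
      (X := (X : Type u)) hV.fromSpec.isOpenEmbedding (hV.primeIdealOf ⟨z, hzV⟩)).trans ?_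
    congr 1
    exact hV.fromSpec_primeIdealOf ⟨z, hzV⟩
  refine (isSmoothAt_iff hA (hV.primeIdealOf ⟨z, hzV⟩).asIdeal d h2).trans ?_
  have h3 := finite_sections_of_isFT (Omega.sheaf φ) hft hV
  obtain ⟨E⟩ := nonempty_equiv φ e hU hV
  have h4 : Module.Finite Γ(X, V) Ω[Γ(X, V)⁄Γ(Spec K, ⊤)] := Module.Finite.equiv E.symm
  rw [mem_support_iff_le _ hV hzV, sheafIdeal_ideal _ hq hft,
    ← K360.FittBasic.ideal_congr E d, K360.FittFiber.not_le_prime_iff_finrank]

theorem not_mem_support_iff_smooth (f : X ⟶ Y) [Flat f] [LocallyOfFinitePresentation f]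
    [QuasiSeparated f] (d : ℕ) (x : X) (hd : FlatMor.localDim (f.fiber (f x)) (f.asFiber x) = d) :
    x ∉ (Fitt.sheafIdeal (Omega.sheaf f) d).support ↔ ∃ U : X.Opens, x ∈ U ∧ Smooth (U.ι ≫ f) := by
  have H : IsPullback (f.fiberι (f x)) (f.fiberToSpecResidueField (f x)) f
      (Y.fromSpecResidueField (f x)) := IsPullback.of_hasPullback _ _
  have : LocallyOfFinitePresentation (f.fiberToSpecResidueField (f x)) :=
    MorphismProperty.of_isPullback H inferInstance
  have : QuasiSeparated (f.fiberToSpecResidueField (f x)) :=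
    MorphismProperty.of_isPullback H inferInstance
  rw [← mem_smoothLocus_iff_exists, Groth.Agent.S2156.result f x]
  have h1 : (f.stalkMap x).hom.Flat := Flat.stalkMap f x
  have h2 := mem_smoothLocus_iff_of_isField (Field.toIsField (Y.residueField (f x)))
    (f.fiberToSpecResidueField (f x)) d (f.asFiber x) hd
  have h3 : x ∉ (Fitt.sheafIdeal (Omega.sheaf f) d).support ↔
      f.asFiber x ∉ (Fitt.sheafIdeal (Omega.sheaf (f.fiberToSpecResidueField (f x))) d).support := by
    rw [← comap_sheafIdeal_omega H d, Scheme.IdealSheafData.support_comap]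
    change _ ↔ ¬ (f.fiberι (f x) (f.asFiber x) ∈ (Fitt.sheafIdeal (Omega.sheaf f) d).support)
    rw [f.fiberι_asFiber x]
  rw [h3, ← h2]
  exact ⟨fun h => ⟨h1, h⟩, fun h => h.2⟩

end Groth.Agent.SDiv.K474.FittOmega2
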