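import Groth.Agent.Divis.BlowChart2
import Groth.Agent.Ega2.ImmCrit

/-!
# The blow-up of a closed subscheme is closed in the blow-up

* `preimage_chart`: for a morphism `f' : Y' ⟶ X'` over `f : Y ⟶ X` of blow-ups, the inverse image of the chart
  of `a` is the chart of the pullback of `a`.
* `isClosedImmersion_map`: if `f` is a closed immersion, so is `f'`.
-/

set_option autoImplicit false
universe u

open CategoryTheory AlgebraicGeometry Limits BlowUp

namespace Groth.Agent.SDiv.K474.BlowClosed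

open Groth.Agent.Divis.IdealComap Groth.Agent.Divis.BlowChart Groth.Agent.Divis.BlowChart2

variable {X Y X' Y' : Scheme.{u}} {J : X.IdealSheafData} {f : Y ⟶ X} {b : X' ⟶ X} {b' : Y' ⟶ Y}
  {f' : Y' ⟶ X'}

/-- On an affine open of `Y'` inside the inverse image of an affine open of `X'`, the exceptional ideal of `b'` is
the extension of the exceptional ideal of `b`. -/
theorem ideal_eq_map (hf' : f' ≫ b = b' ≫ f) (W : X'.affineOpens) (W' : Y'.affineOpens) (e : W'.1 ≤ f' ⁻¹ᵁ W.1) :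
    ((J.comap f).comap b').ideal W' = ((J.comap b).ideal W).map (f'.appLE W.1 W'.1 e).hom := by
  rw [← Scheme.IdealSheafData.comap_comp, ← hf', Scheme.IdealSheafData.comap_comp]
  exact ideal_comap (J.comap b) f' W W' e

/-- The basic open of `h` in an affine open on which the exceptional ideal is generated by `g` and `a = g * h` lies
in the chart of `a`. -/
theorem basicOpen_le_chart (U : X.affineOpens) (a : Γ(X, U.1)) (W : X'.affineOpens) (e : W.1 ≤ b ⁻¹ᵁ U.1)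
    (g h : Γ(X', W.1)) (hg : (J.comap b).ideal W = Ideal.span {g})
    (ha : (b.appLE U.1 W.1 e).hom a = g * h) : X'.basicOpen h ≤ chart b J U a := by
  have e' : X'.basicOpen h ≤ b ⁻¹ᵁ U.1 := (X'.basicOpen_le h).trans e
  refine le_chart b J U a ⟨X'.basicOpen h, W.2.basicOpen h⟩ e' ?_
  have h1 := (J.comap b).map_ideal_basicOpen W h
  change _ = (J.comap b).ideal ⟨X'.basicOpen h, W.2.basicOpen h⟩ at h1
  have h2 : (b.appLE U.1 (X'.basicOpen h) e').hom a =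
      X'.presheaf.map (homOfLE (X'.basicOpen_le h)).op ((b.appLE U.1 W.1 e).hom a) := by
    have := Scheme.Hom.appLE_map b e (homOfLE (X'.basicOpen_le h)).op
    exact (congr($(congrArg CommRingCat.Hom.hom this) a)).symm
  rw [← h1, hg, Ideal.map_span, Set.image_singleton, h2, ha, map_mul]
  have hu : IsUnit (X'.presheaf.map (homOfLE (X'.basicOpen_le h)).op h) :=
    RingedSpace.isUnit_res_basicOpen _ h
  exact (Ideal.span_singleton_mul_right_unit hu _).symm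

/-- `b'.appLE` on pulled back functions. -/
theorem appLE_app (hf' : f' ≫ b = b' ≫ f) (U : X.Opens) (C : X'.Opens) (hC : C ≤ b ⁻¹ᵁ U) (W' : Y'.Opens)
    (e : W' ≤ f' ⁻¹ᵁ C) (e' : W' ≤ b' ⁻¹ᵁ (f ⁻¹ᵁ U)) (a : Γ(X, U)) :
    (b'.appLE (f ⁻¹ᵁ U) W' e').hom ((f.app U).hom a) = (f'.appLE C W' e).hom ((b.appLE U C hC).hom a) := by
  have h1 : b.appLE U C hC ≫ f'.appLE C W' e = f.app U ≫ b'.appLE (f ⁻¹ᵁ U) W' e' := by
    rw [Scheme.Hom.appLE_comp_appLE, Scheme.Hom.app_eq_appLE, Scheme.Hom.appLE_comp_appLE]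
    simp_rw [hf']
  exact (congr($(congrArg CommRingCat.Hom.hom h1) a)).symm

theorem ideal_comap_app (U : X.affineOpens) (hV : IsAffineOpen (f ⁻¹ᵁ U.1)) :
    (J.comap f).ideal ⟨f ⁻¹ᵁ U.1, hV⟩ = (J.ideal U).map (f.app U.1).hom := by
  rw [ideal_comap J f U ⟨_, hV⟩ le_rfl]
  congr 2
  exact (Scheme.Hom.app_eq_appLE f).symm

theorem preimage_chart (hb : IsBlowUp b J) (hb' : IsBlowUp b' (J.comap f)) (hf' : f' ≫ b = b' ≫ f)
    (U : X.affineOpens) (hV : IsAffineOpen (f ⁻¹ᵁ U.1)) (a : Γ(X, U.1)) (ha : a ∈ J.ideal U) :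
    f' ⁻¹ᵁ (chart b J U a) = chart b' (J.comap f) ⟨f ⁻¹ᵁ U.1, hV⟩ ((f.app U.1).hom a) := by
  have hbase : ∀ y : Y', b (f' y) = f (b' y) := fun y => by
    rw [← Scheme.Hom.comp_apply, hf', Scheme.Hom.comp_apply]
  apply le_antisymm
  · intro y hy
    obtain ⟨W, e, hyW, hW⟩ := (mem_chart_iff b J U a (f' y)).1 hy
    obtain ⟨W', hW', hyW', hle⟩ := exists_isAffineOpen_mem_and_subset (X := Y') (x := y) (U := f' ⁻¹ᵁ W.1) hyW
    have e' : W' ≤ b' ⁻¹ᵁ (f ⁻¹ᵁ U.1) := by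
      intro z hz
      have h1 := e (hle hz)
      change f (b' z) ∈ U.1
      rw [← hbase z]
      exact h1
    refine (mem_chart_iff b' (J.comap f) ⟨f ⁻¹ᵁ U.1, hV⟩ _ y).2 ⟨⟨W', hW'⟩, e', hyW', ?_⟩
    rw [ideal_eq_map hf' W ⟨W', hW'⟩ hle, hW, Ideal.map_span, Set.image_singleton,
      appLE_app hf' U.1 W.1 e W' hle e']
  · intro y hy
    obtain ⟨W', e', hyW', hW'⟩ := (mem_chart_iff b' (J.comap f) ⟨f ⁻¹ᵁ U.1, hV⟩ _ y).1 hy
    have hx : f' y ∈ b ⁻¹ᵁ U.1 := by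
      have h1 := e' hyW'
      change b (f' y) ∈ U.1
      rw [hbase]
      exact h1
    obtain ⟨a₀, ha₀, hxC⟩ := exists_mem_chart_of_span b J U hb.1 (s := (J.ideal U : Set Γ(X, U.1)))
      (Ideal.span_eq _).symm (f' y) hx
    set C := chart b J U a₀ with hC
    have hCaff : IsAffineOpen C := isAffineOpen_chart b J U hb ha₀
    have hCle : C ≤ b ⁻¹ᵁ U.1 := chart_le b J U a₀
    obtain ⟨h, hh⟩ := exists_eq_pow_mul_appLE b J U hb ha₀ 1 (m := a) (by rwa [pow_one])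
    rw [pow_one] at hh
    refine basicOpen_le_chart U a ⟨C, hCaff⟩ hCle _ h (ideal_chart b J U a₀ hCaff) hh ?_
    -- it remains to see that `h` does not vanish at `f' y`
    obtain ⟨W'', hW''aff, hyW'', hle⟩ := exists_isAffineOpen_mem_and_subset (X := Y') (x := y)
      (U := f' ⁻¹ᵁ C ⊓ W') ⟨hxC, hyW'⟩
    have e1 : W'' ≤ f' ⁻¹ᵁ C := fun z hz => (hle hz).1
    have e2 : W'' ≤ W' := fun z hz => (hle hz).2
    have e3 : W'' ≤ b' ⁻¹ᵁ (f ⁻¹ᵁ U.1) := e2.trans e'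
    have i1 : ((J.comap f).comap b').ideal ⟨W'', hW''aff⟩ =
        Ideal.span {(f'.appLE C W'' e1).hom ((b.appLE U.1 C hCle).hom a₀)} := by
      rw [ideal_eq_map hf' ⟨C, hCaff⟩ ⟨W'', hW''aff⟩ e1, ideal_chart b J U a₀ hCaff, Ideal.map_span,
        Set.image_singleton]
    have i2 : ((J.comap f).comap b').ideal ⟨W'', hW''aff⟩ =
        Ideal.span {(f'.appLE C W'' e1).hom ((b.appLE U.1 C hCle).hom a)} := by
      have h1 := ((J.comap f).comap b').map_ideal (U := ⟨W'', hW''aff⟩) (V := W') e2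
      rw [← h1, hW', Ideal.map_span, Set.image_singleton, ← appLE_app hf' U.1 C hCle W'' e1 e3]
      congr 2
      have h3 := Scheme.Hom.appLE_map b' e' (homOfLE e2).op
      exact congr($(congrArg CommRingCat.Hom.hom h3) ((f.app U.1).hom a))
    have hnz := mem_nonZeroDivisors_of_ideal_eq_span hb'.1 ⟨W'', hW''aff⟩ _ i1
    rw [hh, map_mul] at i2
    have h4 : (f'.appLE C W'' e1).hom ((b.appLE U.1 C hCle).hom a₀) ∈
        Ideal.span {(f'.appLE C W'' e1).hom ((b.appLE U.1 C hCle).hom a₀) * (f'.appLE C W'' e1).hom h} := by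
      rw [← i2, i1]
      exact Ideal.mem_span_singleton_self _
    obtain ⟨k, hk⟩ := Ideal.mem_span_singleton.1 h4
    have h5 : (1 : Γ(Y', W'')) = (f'.appLE C W'' e1).hom h * k := by
      rw [mul_assoc] at hk
      refine (mul_cancel_left_mem_nonZeroDivisors hnz).1 ?_
      rw [mul_one]
      exact hk
    have h6 : IsUnit ((f'.appLE C W'' e1).hom h) := IsUnit.of_mul_eq_one k h5.symm
    have h7 : y ∈ Y'.basicOpen ((f'.appLE C W'' e1).hom h) := by
      rw [Scheme.basicOpen_of_isUnit _ h6]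
      exact hyW''
    rw [Scheme.basicOpen_appLE] at h7
    exact h7.2

theorem exists_frac (hb' : IsBlowUp b' (J.comap f)) (V : Y.affineOpens) (a : Γ(Y, V.1)) (ha : a ∈ (J.comap f).ideal V)
    {C' : Y'.Opens} (hC' : C' = chart b' (J.comap f) V a) (e : C' ≤ b' ⁻¹ᵁ V.1) (g : Γ(Y', C')) :
    ∃ (n : ℕ) (m : Γ(Y, V.1)), m ∈ ((J.comap f).ideal V) ^ n ∧
      (b'.appLE V.1 C' e).hom a ^ n * g = (b'.appLE V.1 C' e).hom m := by
  subst hC'
  exact exists_pow_mul_eq_appLE b' (J.comap f) V hb' ha g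

theorem appLE_nz (hb' : IsBlowUp b' (J.comap f)) (V : Y.affineOpens) (a : Γ(Y, V.1)) (ha : a ∈ (J.comap f).ideal V)
    {C' : Y'.Opens} (hC' : C' = chart b' (J.comap f) V a) (e : C' ≤ b' ⁻¹ᵁ V.1) :
    (b'.appLE V.1 C' e).hom a ∈ nonZeroDivisors Γ(Y', C') := by
  subst hC'
  exact appLE_chart_mem_nonZeroDivisors b' (J.comap f) V hb' ha

/-- If `f` is a closed immersion, the induced morphism of blow-ups is a closed immersion. -/
theorem isClosedImmersion_map [IsClosedImmersion f] (hb : IsBlowUp b J) (hb' : IsBlowUp b' (J.comap f))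
    (hf' : f' ≫ b = b' ≫ f) : IsClosedImmersion f' := by
  have hVaff : ∀ U : X.affineOpens, IsAffineOpen (f ⁻¹ᵁ U.1) := fun U => U.2.preimage f
  refine Groth.Agent.Ega2.ImmCrit.isClosedImmersion_of_affine_family f'
    (ι := Σ U : X.affineOpens, {a // a ∈ J.ideal U}) (fun i => chart b J i.1 i.2.1)
    (fun i => isAffineOpen_chart b J i.1 hb i.2.2) (fun i => ?_) ?_ (fun i => ?_)
  · rw [preimage_chart hb hb' hf' i.1 (hVaff i.1) i.2.1 i.2.2]
    refine isAffineOpen_chart b' (J.comap f) _ hb' ?_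
    rw [ideal_comap_app i.1 (hVaff i.1)]
    exact Ideal.mem_map_of_mem _ i.2.2
  · rw [eq_top_iff]
    intro x _
    obtain ⟨U, hU, hxU, -⟩ := exists_isAffineOpen_mem_and_subset (X := X) (x := b x) (U := ⊤) trivial
    obtain ⟨a, ha, hxa⟩ := exists_mem_chart_of_span b J ⟨U, hU⟩ hb.1 (s := (J.ideal ⟨U, hU⟩ : Set Γ(X, U)))
      (Ideal.span_eq _).symm x hxU
    exact TopologicalSpace.Opens.mem_iSup.2 ⟨⟨⟨U, hU⟩, ⟨a, ha⟩⟩, hxa⟩
  · obtain ⟨U, a, ha⟩ := i
    dsimp only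
    set C := chart b J U a with hC
    have hCle : C ≤ b ⁻¹ᵁ U.1 := chart_le b J U a
    have hpre := preimage_chart hb hb' hf' U (hVaff U) a ha
    have hā : (f.app U.1).hom a ∈ (J.comap f).ideal ⟨f ⁻¹ᵁ U.1, hVaff U⟩ := by
      rw [ideal_comap_app U (hVaff U)]
      exact Ideal.mem_map_of_mem _ ha
    have e : f' ⁻¹ᵁ C ≤ b' ⁻¹ᵁ (f ⁻¹ᵁ U.1) := by
      rw [hC, hpre]; exact chart_le _ _ _ _
    intro g
    obtain ⟨n, m, hm, hg⟩ := exists_frac hb' ⟨f ⁻¹ᵁ U.1, hVaff U⟩ _ hā hpre e g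
    have hnz := appLE_nz hb' ⟨f ⁻¹ᵁ U.1, hVaff U⟩ _ hā hpre e
    rw [ideal_comap_app U (hVaff U), ← Ideal.map_pow] at hm
    have hsurj : Function.Surjective (f.app U.1).hom := f.app_surjective U.1 U.2
    obtain ⟨m₀, hm₀, rfl⟩ := (Ideal.mem_map_iff_of_surjective _ hsurj).1 hm
    obtain ⟨g₀, hg₀⟩ := exists_eq_pow_mul_appLE b J U hb ha n hm₀
    refine ⟨g₀, ?_⟩
    have h1 := appLE_app hf' U.1 C hCle (f' ⁻¹ᵁ C) le_rfl e a
    have h2 := appLE_app hf' U.1 C hCle (f' ⁻¹ᵁ C) le_rfl e m₀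
    rw [hg₀, map_mul, map_pow, ← h1] at h2
    rw [h2] at hg
    have h3 := (mul_cancel_left_mem_nonZeroDivisors (pow_mem hnz n)).1 hg
    rw [h3]
    exact congr($(congrArg CommRingCat.Hom.hom (Scheme.Hom.app_eq_appLE f')) g₀)

end Groth.Agent.SDiv.K474.BlowClosed
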