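import Groth.Agent.SDiv.K474.ConLoc

/-!
# The conormal sequence of a composition with first immersion `H_1`-regular
-/

set_option autoImplicit false
universe u

open CategoryTheory CategoryTheory.Limits AlgebraicGeometry Opposite TopologicalSpace
open Groth.Agent.Sga67 Groth.Agent.Sga67.Sec Groth.Agent.Sga67.LocBasis
  Groth.Agent.Sga67.KosStalk Groth.Agent.Sga67.KosImm Groth.Agent.Sga67.KosConormal
open K559.ConSt K559.StIdeal K559.Basic K559.ConSeq K559.KindsDesc K559.GenDesc
open Groth.Agent.SDiv.K474.ConLoc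

namespace Groth.Agent.SDiv.K474.ConShort

variable {X Y Z : Scheme.{u}}

/-- Good kinds: a chart at each point. -/
theorem exists_ch {S : ∀ (R : Type u) [CommRing R], List R → Prop} (hS : Good S)
    {i : Y ⟶ X} {y : Y} (h : K559.Gen.SAt S i (i y)) : ∃ (r : ℕ) (c : Ch i r), i y ∈ c.U := by
  obtain ⟨U, hyU, hcl, rs, hrs, hker⟩ := h
  refine ⟨rs.length, ⟨U.1, U.2, hcl, rs.get, hker.trans (ofList_eq rs), fun a ha j => ?_⟩, hyU⟩
  rw [← ofList_eq]
  exact hS.coeff _ rs hrs a ha j

/-- The conormal module of an immersion of a good kind is finite locally free. -/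
theorem isFinLocFree_of_good {S : ∀ (R : Type u) [CommRing R], List R → Prop} (hS : Good S)
    (i : Y ⟶ X) [IsPreimmersion i] [QuasiCompact i] (h : ∀ y : Y, K559.Gen.SAt S i (i y)) :
    FlatMod.IsFinLocFree (Omega.conormal i) := by
  rw [isFinLocFree_iff]
  intro y
  obtain ⟨r, c, hy⟩ := exists_ch hS (h y)
  exact ⟨i ⁻¹ᵁ c.U, r, hy, fun j => fN c j, isLocBasis_fN c⟩

theorem isFinLocFree_of_h1 (i : Y ⟶ X) [QuasiCompact i] (h : RegImm.IsRegularImmersion .h1 i) :
    FlatMod.IsFinLocFree (Omega.conormal i) := by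
  have := h.1
  exact isFinLocFree_of_good good_h1 i h.2

theorem isFinLocFree_of_quasi (i : Y ⟶ X) [QuasiCompact i] (h : RegImm.IsRegularImmersion .quasi i) :
    FlatMod.IsFinLocFree (Omega.conormal i) := by
  have := h.1
  exact isFinLocFree_of_good good_q i h.2

/-- The intersection of the ideal of `Y` with the square of the ideal of `Z`. -/
theorem inf_le_mul {i : Y ⟶ X} {j : Z ⟶ Y} [IsPreimmersion i] [IsPreimmersion j]
    {z : Z} (h : RegImm.IsRegularImmersionAt .h1 j z) :
    kr i (j z) ⊓ krc i j z * krc i j z ≤ kr i (j z) * krc i j z := by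
  obtain ⟨U, hyU, hcl, rs, hrs, hker⟩ := h
  have h1 : CAlgX.IsH1Regular (rs.map (gO Y hyU)).get :=
    good_h1.flat _ _ (gO Y hyU) (flat_germ U.2 hyU) rs hrs
  have hk : kr j z = Ideal.ofList (rs.map (gO Y hyU)) := by
    rw [ker_stalkMap U.2 hcl z hyU, hker, Ideal.map_ofList]
  refine K559.H1Inf.inf_le (i.stalkMap (j z)).hom (i.stalkMap_surjective (j z)) (krc i j z)
    (kr_le_krc i j z) _ h1 ?_
  rw [krc, Ideal.map_comap_of_surjective _ (i.stalkMap_surjective (j z)), hk, ofList_eq]

variable {i : Y ⟶ X} {j : Z ⟶ Y}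
  [IsPreimmersion i] [IsPreimmersion j] [QuasiCompact i] [QuasiCompact j]
  {φ₁ : (Scheme.Modules.pullback j).obj (Omega.conormal i) ⟶ Omega.conormal (j ≫ i)}
  (hφ₁ : OmegaSh.IsConormalMap (j ≫ i) i (𝟙 X) j φ₁)
  {φ₂ : (Scheme.Modules.pullback (𝟙 Z)).obj (Omega.conormal (j ≫ i)) ⟶ Omega.conormal j}
  (hφ₂ : OmegaSh.IsConormalMap j (j ≫ i) i (𝟙 Z) φ₂)

include hφ₁ in
/-- Injectivity of the first map. -/
theorem injective_φ₁ (z : Z)
    (hz : kr i (j z) ⊓ krc i j z * krc i j z ≤ kr i (j z) * krc i j z) :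
    Function.Injective (stM φ₁ z) := by
  rw [injective_iff_map_eq_zero]
  intro t ht
  obtain ⟨t, rfl⟩ := K559.ConSt.cn_surjective j _ z t
  obtain ⟨e, rfl⟩ := K559.ConSt.cl_surjective i (j z) t
  obtain ⟨e', he'⟩ := exists_vx_eq (j ≫ i) z (vx i.ker (i (j z)) e) (by
    refine (stalkMap_comp_apply i j z _).trans ?_
    rw [stalkMap_vx, map_zero])
  rw [stM_φ₁ hφ₁ z e e' he'] at ht
  replace ht := (cl_eq_zero_iff (j ≫ i) z e').1 ht
  rw [he'] at ht
  have h1 : vx i.ker (i (j z)) e ∈ kr i (j z) * krc i j z := by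
    refine hz ⟨stalkMap_vx i (j z) e, ?_⟩
    rw [kr_comp] at ht
    exact ht
  have key : ∀ t ∈ kr i (j z) * krc i j z, ∀ e : StM (ClSub.idealMod i.ker) (i (j z)),
      vx i.ker (i (j z)) e = t →
        cn j (Omega.conormal i) z (cl i (j z) e) = 0 := by
    intro t ht
    induction ht using Submodule.mul_induction_on' with
    | mem_mul_mem a ha b hb =>
      intro e he
      obtain ⟨e', he'⟩ := exists_vx_eq i (j z) a ha
      have : e = b • e' := by
        apply vx_injective
        rw [map_smul, he', he, smul_eq_mul, mul_comm]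
      rw [this, cl_smul, cn_smul, show j.stalkMap z (i.stalkMap (j z) b) = 0 from hb, zero_smul]
    | add a ha b hb iha ihb =>
      intro e he
      obtain ⟨e1, he1⟩ := exists_vx_eq i (j z) a (Ideal.mul_le_left ha)
      obtain ⟨e2, he2⟩ := exists_vx_eq i (j z) b (Ideal.mul_le_left hb)
      have : e = e1 + e2 := by
        apply vx_injective
        rw [map_add, he, he1, he2]
      rw [this, map_add, map_add, iha e1 he1, ihb e2 he2, add_zero]
  exact key _ h1 e rfl

include hφ₁ hφ₂ in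
/-- The conormal sequence of a composition is exact when the first immersion is `H_1`-regular. -/
theorem shortExact (hj : RegImm.IsRegularImmersion .h1 j) :
    (ShortComplex.mk φ₁ ((Scheme.Modules.pullbackId Z).inv.app
      (Omega.conormal (j ≫ i)) ≫ φ₂) (comp_zero hφ₁ hφ₂)).ShortExact := by
  obtain ⟨h1, h2⟩ := exact_epi hφ₁ hφ₂
  have h3 : Mono φ₁ := by
    refine Groth.Agent.Dcoh.StalkMod.mono_of_injective _ fun z s t hst => ?_
    refine injective_φ₁ hφ₁ z (inf_le_mul (hj.2 z)) ?_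
    exact (stalkLin_eq_stM _ z s).symm.trans (hst.trans (stalkLin_eq_stM _ z t))
  exact { exact := h1, mono_f := h3, epi_g := h2 }

end Groth.Agent.SDiv.K474.ConShort
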