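import Groth.Agent.EGA43.K127.ValTrd
import Groth.Agent.FamCyc.K812.CondT
import Groth.Agent.Ega4fib.H172.FibDimBC
import Groth.Agent.CycB.RelDim4
import Groth.Agent.Old.H33.EquidimBC
import Groth.Agent.Ega43.H133.OpenAt
import Groth.Agent.S4650
import Groth.Agent.FlatB.FppfDom

/-!
# Flat morphisms with generic fibres of pure dimension `r` are universally equidimensional

`rtd_eq_of_flat`, `univ_of_flat`: `f : X ⟶ S` flat, locally of finite presentation, with relative transcendence
degree `r` at the maximal points of `X`; then every fibre of every base change is of dimension `r` at every point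
and components dominate components.
-/

set_option autoImplicit false
universe u

open CategoryTheory AlgebraicGeometry Limits TopologicalSpace

namespace Groth.Agent.SDiv.K474.EquiFlat

open Groth.Agent.CycB.RelDim Groth.Agent

variable {X S : Scheme.{u}}

/-- Every point is a specialization of a maximal point. -/
theorem exists_max {T : Type*} [TopologicalSpace T] [QuasiSober T] [T0Space T] (y : T) :
    ∃ η : T, η ⤳ y ∧ (∀ y' : T, y' ⤳ η → y' = η) := by
  obtain ⟨Z, hZ, hyZ⟩ := exists_mem_irreducibleComponents_subset_of_isIrreducible (closure {y})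
    isIrreducible_singleton.closure
  have hcl : IsClosed Z := isClosed_of_mem_irreducibleComponents Z hZ
  obtain ⟨η, hη⟩ := QuasiSober.sober hZ.1 hcl
  refine ⟨η, ?_, ?_⟩
  · rw [specializes_iff_mem_closure, hη.def]
    exact hyZ (subset_closure rfl)
  · intro y' hy'
    have h1 : Z ⊆ closure {y'} := by
      rw [← hη.def]
      exact hy'.closure_subset
    have h2 : closure {y'} ⊆ Z := hZ.2 isIrreducible_singleton.closure h1
    have h3 : closure {y'} = closure {η} := by
      rw [hη.def]; exact h2.antisymm h1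
    exact (inseparable_iff_closure_eq.mpr h3).eq

/-- Flat morphisms send maximal points to maximal points. -/
theorem max_of_flat (f : X ⟶ S) [Flat f] {ζ : X} (h : ∀ z : X, z ⤳ ζ → z = ζ) (y : S) (hy : y ⤳ f ζ) :
    y = f ζ := by
  obtain ⟨z, hz, hzy⟩ := Flat.generalizingMap f hy
  rw [← hzy, h z hz]

/-- A flat morphism locally of finite presentation with relative transcendence degree `r` at the maximal points of
the source has relative transcendence degree `r` at all points which are maximal in their fibre. -/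
theorem rtd_eq_of_flat (f : X ⟶ S) [Flat f] [LocallyOfFinitePresentation f] {r : ℕ}
    (h : ∀ ζ : X, (∀ z : X, z ⤳ ζ → z = ζ) → rtd f ζ = r) {x : X} (hx : FibGeneric f x) : rtd f x = r := by
  obtain ⟨ζ, hζ, hζm⟩ := exists_max x
  apply le_antisymm
  · obtain ⟨ζ', hζ', hf', hle⟩ := K127.ValTrd.exists_rtd_ge_of_isUnivOpenAt f hx
      (Ega43.H133.OpenAt.isUnivOpenAt_of_universallyOpen f x) (hζ.map f.continuous)
    obtain ⟨ζ'', hζ'', hm''⟩ := exists_max ζ'
    have h1 : f ζ'' = f ζ' := by
      rw [hf']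
      exact max_of_flat f hζm _ (hf' ▸ hζ''.map f.continuous)
    exact hle.trans ((VarietyA.LocDim.rtd_le_of_specializes f hζ'' h1).trans (h _ hm'').le)
  · rw [← h ζ hζm]
    exact K812.CondT.rtd_le_of_fibGeneric f hζ hx

/-- Universal equidimensionality of dimension `r`. -/
theorem univ_of_flat (f : X ⟶ S) [Flat f] [LocallyOfFinitePresentation f] {r : ℕ}
    (h : ∀ ζ : X, (∀ z : X, z ⤳ ζ → z = ζ) → rtd f ζ = r) {S' : Scheme.{u}} (g : S' ⟶ S) :
    (∀ w : ↥(pullback f g), FlatMor.fibreDimAt (pullback.snd f g) w = r) ∧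
      ∀ C ∈ irreducibleComponents ↥(pullback f g),
        closure ((pullback.snd f g).base '' C) ∈ irreducibleComponents ↥S' := by
  refine ⟨fun w => ?_, fun C hC => S4650.result _ (Flat.generalizingMap _) C hC⟩
  obtain ⟨z, -, -, hz, n, hn, hn'⟩ := Ega4fib.H172.FibDimBC.exists_fibGeneric_rtd_eq (pullback.snd f g) w
  rw [hn']
  rw [rtd_snd_of_fibGeneric_snd hz, rtd_eq_of_flat f h (Old.H33.EquidimBC.fibGeneric_fst hz)] at hn
  have : r = n := by exact_mod_cast hn
  rw [this]

/-- Let `Z` be the closure of `z` in `X`, with `p z` a maximal point of `S`.  At a point `t` of `Z ×_S T` maximal in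
its fibre over `T` and over a maximal point of `S`, the relative transcendence degree is that of `z`. -/
theorem rtd_snd_eq_of_generic {X Z S T : Scheme.{u}} (p : X ⟶ S) {z : X}
    (ι : Z ⟶ X) [IsClosedImmersion ι] (hZ : Set.range ι.base = closure {z}) (f : T ⟶ S)
    {t : ↥(pullback (ι ≫ p) f)} (ht : FibGeneric (pullback.snd (ι ≫ p) f) t)
    (hm : ∀ s : S, s ⤳ f (pullback.snd (ι ≫ p) f t) → s = f (pullback.snd (ι ≫ p) f t)) :
    rtd (pullback.snd (ι ≫ p) f) t = rtd p z := by
  rw [rtd_snd_of_fibGeneric_snd ht]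
  have hw := Old.H33.EquidimBC.fibGeneric_fst ht
  set w := pullback.fst (ι ≫ p) f t with hwdef
  have h1 : (ι ≫ p) w = f (pullback.snd (ι ≫ p) f t) := by
    rw [hwdef, ← Scheme.Hom.comp_apply, ← Scheme.Hom.comp_apply, pullback.condition]
  have h2 : z ⤳ ι w := by
    rw [specializes_iff_mem_closure, ← hZ]
    exact ⟨w, rfl⟩
  obtain ⟨γ, hγ⟩ : z ∈ Set.range ι.base := by
    rw [hZ]
    exact subset_closure rfl
  have hγ' : ι γ = z := hγ
  have h3 : γ ⤳ w := by
    rw [← ι.isEmbedding.isInducing.specializes_iff, hγ']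
    exact h2
  have h4 : (ι ≫ p) γ = (ι ≫ p) w := by
    have h5 := hm ((ι ≫ p) γ) (by rw [← h1]; exact h3.map (ι ≫ p).continuous)
    rw [h5, h1]
  have h6 : γ = w := hw γ h4 h3
  rw [← h6, K812.CondT.rtd_closed, hγ']

/-- The relative transcendence degree from the dimension of the closure in the fibre. -/
theorem rtd_eq_of_dim {X S : Scheme.{u}} (p : X ⟶ S) [LocallyOfFiniteType p] (z : X) (r : ℕ)
    (hr : topologicalKrullDim ↥(closure ({p.asFiber z} : Set ↥(p.fiber (p.base z)))) = r) :
    rtd p z = r := by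
  obtain ⟨n, hn, hn'⟩ := exists_dim_closure_fiber p (p z) (p.asFiber z)
  rw [Scheme.Hom.fiberι_asFiber] at hn
  have h : ((n : ℕ) : WithBot ℕ∞) = r := hn'.symm.trans hr
  have : n = r := by exact_mod_cast h
  rw [hn, this]

/-- The main criterion: a closed subscheme `Y` of `Z ×_S T`, flat over `T`, containing the whole fibres of `Z ×_S T`
over the images of its maximal points, which lie over maximal points of `S`. -/
theorem univ_of_closed {X Z S T Y : Scheme.{u}} (p : X ⟶ S) [LocallyOfFiniteType p] {z : X} {r : ℕ}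
    (hr : rtd p z = r) (ι : Z ⟶ X) [IsClosedImmersion ι] (hZ : Set.range ι.base = closure {z}) (f : T ⟶ S)
    [IsLocallyNoetherian T] (i : Y ⟶ pullback (ι ≫ p) f) [IsClosedImmersion i]
    [Flat (i ≫ pullback.snd (ι ≫ p) f)]
    (hmx : ∀ ζ : Y, (∀ y : Y, y ⤳ ζ → y = ζ) →
      (∀ s : S, s ⤳ f (pullback.snd (ι ≫ p) f (i ζ)) → s = f (pullback.snd (ι ≫ p) f (i ζ))) ∧
      ∀ t : ↥(pullback (ι ≫ p) f), pullback.snd (ι ≫ p) f t = pullback.snd (ι ≫ p) f (i ζ) → t ∈ Set.range i)
    {T' : Scheme.{u}} (g : T' ⟶ T) :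
    (∀ w : ↥(pullback (i ≫ pullback.snd (ι ≫ p) f) g),
      FlatMor.fibreDimAt (pullback.snd (i ≫ pullback.snd (ι ≫ p) f) g) w = r) ∧
      ∀ C ∈ irreducibleComponents ↥(pullback (i ≫ pullback.snd (ι ≫ p) f) g),
        closure ((pullback.snd (i ≫ pullback.snd (ι ≫ p) f) g).base '' C) ∈ irreducibleComponents ↥T' := by
  have hlfp : LocallyOfFinitePresentation (i ≫ pullback.snd (ι ≫ p) f) :=
    FlatB.FppfDom.locallyOfFinitePresentation_of_isLocallyNoetherian _
  refine univ_of_flat _ (fun ζ hζ => ?_) g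
  obtain ⟨h1, h2⟩ := hmx ζ hζ
  rw [K812.CondT.rtd_closed, ← hr]
  refine rtd_snd_eq_of_generic p ι hZ f ?_ h1
  intro t ht1 ht2
  obtain ⟨y, rfl⟩ := h2 t ht1
  rw [i.isEmbedding.isInducing.specializes_iff] at ht2
  rw [hζ y ht2]

/-- The generic point of an irreducible component is maximal. -/
theorem max_of_mem {T : Type*} [TopologicalSpace T] [T0Space T] {y : T} (hy : closure {y} ∈ irreducibleComponents T)
    (s : T) (hs : s ⤳ y) : s = y := by
  have h1 : closure {y} ⊆ closure {s} := hs.closure_subset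
  have h2 : closure {s} ⊆ closure {y} := hy.2 isIrreducible_singleton.closure h1
  exact (inseparable_iff_closure_eq.mpr (h2.antisymm h1)).eq

end Groth.Agent.SDiv.K474.EquiFlat
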