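import Groth.Prelude.Def_BlowUp2
import Groth.Agent.Flat2C.StrictTr
import Groth.Agent.Divis.EffCartier
import Mathlib.AlgebraicGeometry.Morphisms.SchemeTheoreticallyDominant
import Mathlib.RingTheory.DiscreteValuationRing.Basic
import Groth.Agent.Mor.K387.Points

/-!
# Strict transforms and flat closures

`ker_eq_comap`: let `P ⟶ S'` be a morphism, `J` the ideal of functions killed by powers of `E` on `P`, with
`V(J)` flat over `S'`; for `T ⟶ S'` with `T` reduced and a quasi-compact dominant `j : U ⟶ T` such that `E` becomes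
trivial on `P ×_{S'} U`, the scheme theoretic image of `P ×_{S'} U` in `P ×_{S'} T` is the inverse image of `V(J)`.
-/

set_option autoImplicit false
universe u

open CategoryTheory AlgebraicGeometry Limits TopologicalSpace

namespace Groth.Agent.SDiv.K474.StrictDVR

open Groth.Agent.Flat2C.StrictTr Groth.Agent.Divis.EffCartier

/-- The flat closure in a base change is the base change of the strict transform. -/
theorem ker_eq_comap {P S' T U PT PU : Scheme.{u}} {p₂ : P ⟶ S'} {f' : T ⟶ S'} {m : PT ⟶ P} {qT : PT ⟶ T}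
    (hm : IsPullback m qT p₂ f') {j : U ⟶ T} {κ : PU ⟶ PT} {qU : PU ⟶ U} (hκ : IsPullback κ qU qT j)
    [QuasiCompact j] [IsDominant j] [IsReduced T] {E J : P.IdealSheafData} (hE : BlowUp.IsFiniteTypeIdeal E)
    (hJ : IsKilledIdeal E J) [Flat (J.subschemeι ≫ p₂)] (hU : E.comap (κ ≫ m) = ⊤) :
    κ.ker = J.comap m := by
  apply le_antisymm
  · have : IsSchemeTheoreticallyDominant j := .of_isDominant j
    have hp : IsPullback (pullback.snd m J.subschemeι) (pullback.fst m J.subschemeι ≫ qT)
        (J.subschemeι ≫ p₂) f' :=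
      (IsPullback.of_hasPullback m J.subschemeι).flip.paste_vert hm
    have hfl : Flat (pullback.fst m J.subschemeι ≫ qT) := by
      exact MorphismProperty.of_isPullback (P := @Flat) hp inferInstance
    let κY := pullback.fst (pullback.fst m J.subschemeι ≫ qT) j
    have hκY : IsSchemeTheoreticallyDominant κY := inferInstance
    let c' : pullback (pullback.fst m J.subschemeι ≫ qT) j ⟶ PU :=
      hκ.lift (κY ≫ pullback.fst m J.subschemeι) (pullback.snd _ _)
        (by rw [Category.assoc]; exact pullback.condition)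
    have h1 : c' ≫ κ = κY ≫ pullback.fst m J.subschemeι := hκ.lift_fst _ _ _
    calc κ.ker ≤ (c' ≫ κ).ker := Scheme.Hom.le_ker_comp _ _
      _ = (κY ≫ pullback.fst m J.subschemeι).ker := by rw [h1]
      _ = J.comap m := by
        rw [← Scheme.IdealSheafData.map_ker, hκY.ker_eq_bot, Scheme.IdealSheafData.map_bot]
        rfl
  · rw [← Scheme.IdealSheafData.le_map_iff_comap_le, Scheme.IdealSheafData.map_ker,
      hJ.eq_killedIdeal hE]
    refine killedIdeal_le_ker_of_isEff hE _ ?_
    rw [hU]
    exact isEff_top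

/-- On the spectrum of a principal ideal domain an ideal sheaf whose support misses the generic point is
effective Cartier. -/
theorem isEff_of_pid (R : Type u) [CommRing R] [IsDomain R] [IsPrincipalIdealRing R]
    (I : (Spec (CommRingCat.of R)).IdealSheafData)
    (h : (⟨⊥, Ideal.isPrime_bot⟩ : Spec (CommRingCat.of R)) ∉ (I.support : Set (Spec (CommRingCat.of R)))) :
    BlowUp.IsEffCartierIdeal I := by
  intro x
  let e := (Scheme.ΓSpecIso (CommRingCat.of R)).commRingCatIsoToRingEquiv
  have hpid : IsPrincipalIdealRing Γ(Spec (CommRingCat.of R), ⊤) :=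
    IsPrincipalIdealRing.of_surjective e.symm.toRingHom e.symm.surjective
  have hdom : IsDomain Γ(Spec (CommRingCat.of R), ⊤) := inferInstance
  obtain ⟨f, hf⟩ := (IsPrincipalIdealRing.principal (I.ideal ⟨⊤, isAffineOpen_top _⟩)).principal
  refine ⟨⟨⊤, isAffineOpen_top _⟩, trivial, f, ?_, hf⟩
  rw [mem_nonZeroDivisors_iff_ne_zero]
  rintro rfl
  have key : ∀ y : ↥(Spec (CommRingCat.of R)), y ∈ I.support := by
    intro y
    rw [I.mem_support_iff_of_mem (U := ⟨⊤, isAffineOpen_top _⟩) trivial, hf, Scheme.mem_zeroLocus_iff]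
    intro g hg
    rw [SetLike.mem_coe, Submodule.mem_span_singleton] at hg
    obtain ⟨r, rfl⟩ := hg
    simp
  exact h (key _)

/-- The spectrum of the fraction field maps to the generic point. -/
theorem specMap_fractionRing (R : Type u) [CommRing R] [IsDomain R]
    (y : ↥(Spec (CommRingCat.of (FractionRing R)))) :
    (Spec.map (CommRingCat.ofHom (algebraMap R (FractionRing R)))).base y =
      (⟨⊥, Ideal.isPrime_bot⟩ : Spec (CommRingCat.of R)) := by
  apply PrimeSpectrum.ext
  have hy : y.asIdeal = ⊥ := (Ideal.eq_bot_or_top y.asIdeal).resolve_right y.2.ne_top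
  change Ideal.comap (algebraMap R (FractionRing R)) y.asIdeal = ⊥
  rw [hy]
  exact Ideal.comap_bot_of_injective _ (IsFractionRing.injective R (FractionRing R))

/-- The square of fibre products over a composite. -/
theorem isPullback_map {Z S S' T : Scheme.{u}} (a : Z ⟶ S) (b : S' ⟶ S) (f : T ⟶ S) (f' : T ⟶ S')
    (h : f ≫ 𝟙 S = f' ≫ b) (h0 : a ≫ 𝟙 S = 𝟙 Z ≫ a) :
    IsPullback (pullback.map a f a b (𝟙 Z) f' (𝟙 S) h0 h) (pullback.snd a f) (pullback.snd a b) f' := by
  have hf : f = f' ≫ b := by simpa using h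
  have hs : IsPullback (pullback.map a f a b (𝟙 Z) f' (𝟙 S) h0 h ≫ pullback.fst a b) (pullback.snd a f)
      a (f' ≫ b) := by
    rw [← hf, pullback.map, pullback.lift_fst, Category.comp_id]
    exact IsPullback.of_hasPullback a f
  exact hs.of_right (by rw [pullback.map, pullback.lift_snd]) (IsPullback.of_hasPullback a b)

/-- An ideal sheaf becomes trivial along a morphism missing its support. -/
theorem comap_eq_top_of_forall {X Y : Scheme.{u}} (I : Y.IdealSheafData) (f : X ⟶ Y)
    (h : ∀ x : X, f.base x ∉ (I.support : Set Y)) : I.comap f = ⊤ := by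
  rw [← Scheme.IdealSheafData.support_eq_bot_iff, Scheme.IdealSheafData.support_comap]
  ext x
  exact ⟨fun hx => (h x hx).elim, fun hx => hx.elim⟩

/-- The flat closure in a base change is the base change of the strict transform: the form for a blow-up. -/
theorem ker_eq_comap_of_blowUp {Z S P S' T U PT PU : Scheme.{u}} {a : Z ⟶ S} {b : S' ⟶ S} {p₁ : P ⟶ Z}
    {p₂ : P ⟶ S'} (hP : p₁ ≫ a = p₂ ≫ b) {𝓘 : S.IdealSheafData} (hb : BlowUp.IsEffCartierIdeal (𝓘.comap b))
    {f : T ⟶ S} {f' : T ⟶ S'} (hf' : f' ≫ b = f) {m : PT ⟶ P} {qT : PT ⟶ T}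
    (hm : IsPullback m qT p₂ f') {j : U ⟶ T} {κ : PU ⟶ PT} {qU : PU ⟶ U} (hκ : IsPullback κ qU qT j)
    [QuasiCompact j] [IsDominant j] [IsReduced T] {J : P.IdealSheafData}
    (hJ : IsKilledIdeal ((𝓘.comap a).comap p₁) J) [Flat (J.subschemeι ≫ p₂)]
    (hU : ∀ y : U, f.base (j.base y) ∉ (𝓘.support : Set S)) :
    κ.ker = J.comap m := by
  have hE : (𝓘.comap a).comap p₁ = (𝓘.comap b).comap p₂ := by
    rw [← Scheme.IdealSheafData.comap_comp, ← Scheme.IdealSheafData.comap_comp, hP]
  have hft : BlowUp.IsFiniteTypeIdeal ((𝓘.comap a).comap p₁) := by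
    rw [hE]
    exact isFiniteTypeIdeal_comap (isFiniteTypeIdeal_of_isEff hb) _
  refine ker_eq_comap hm hκ hft hJ ?_
  have h1 : (κ ≫ m) ≫ p₂ ≫ b = (qU ≫ j) ≫ f := by
    rw [Category.assoc, ← Category.assoc m p₂ b, hm.w, Category.assoc, hf', ← Category.assoc, hκ.w]
  rw [hE, ← Scheme.IdealSheafData.comap_comp, ← Scheme.IdealSheafData.comap_comp, Category.assoc, h1]
  exact comap_eq_top_of_forall _ _ fun x => hU _

end Groth.Agent.SDiv.K474.StrictDVR
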