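import Groth.Agent.Flat2C.StrictTr
import Groth.Agent.Divis.BlowUpFormal
import Groth.Agent.SDiv.K474.EquiFlat

/-!
# Maximal points and blow-ups

Maximal points do not lie on effective Cartier divisors; a blow-up sends maximal points to maximal points.
-/

set_option autoImplicit false
universe u

open CategoryTheory AlgebraicGeometry Limits TopologicalSpace

namespace Groth.Agent.SDiv.K474.BlowMax

open Groth.Agent.Flat2C.StrictTr Groth.Agent.Divis.EffCartier

/-- Maximal points do not lie on effective Cartier divisors. -/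
theorem not_mem_support_of_max {X : Scheme.{u}} {E : X.IdealSheafData} (hE : BlowUp.IsEffCartierIdeal E) {x : X}
    (hx : ∀ y : X, y ⤳ x → y = x) : x ∉ (E.support : Set X) := by
  obtain ⟨U, hxU, a, ha, hEa⟩ := hE x
  intro h
  rw [SetLike.mem_coe, E.mem_support_iff_of_mem hxU, hEa, Scheme.zeroLocus_span, Scheme.mem_zeroLocus_iff] at h
  have h1 : x ∉ X.basicOpen a := h a rfl
  -- `a` is in the minimal prime of `x`
  let P := (U.2.primeIdealOf ⟨x, hxU⟩).asIdeal
  have hmin : P ∈ minimalPrimes Γ(X, U.1) := by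
    refine ⟨⟨inferInstance, bot_le⟩, fun Q hQ hQP => ?_⟩
    have hQ1 := hQ.1
    let q : Spec Γ(X, U.1) := ⟨Q, hQ1⟩
    have hq : q ⤳ U.2.primeIdealOf ⟨x, hxU⟩ :=
      (PrimeSpectrum.le_iff_specializes (⟨Q, hQ1⟩ : PrimeSpectrum Γ(X, U.1)) (U.2.primeIdealOf ⟨x, hxU⟩)).mp hQP
    have hq' := hq.map U.2.fromSpec.continuous
    have h2 : U.2.fromSpec (U.2.primeIdealOf ⟨x, hxU⟩) = x := U.2.fromSpec_primeIdealOf ⟨x, hxU⟩
    rw [h2] at hq'
    have h3 := hx _ hq'
    have h4 : q = U.2.primeIdealOf ⟨x, hxU⟩ := by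
      have hinj : Function.Injective U.2.fromSpec := by
        have := U.2.isOpenImmersion_fromSpec
        exact U.2.fromSpec.isOpenEmbedding.injective
      exact hinj (h3.trans h2.symm)
    have h5 : Q = P := congrArg PrimeSpectrum.asIdeal h4
    exact h5.ge
  have haP : a ∈ P := by
    by_contra hc
    apply h1
    have h6 : U.2.primeIdealOf ⟨x, hxU⟩ ∈ U.2.fromSpec ⁻¹ᵁ X.basicOpen a := by
      rw [U.2.fromSpec_preimage_basicOpen]
      exact hc
    have h7 : U.2.fromSpec (U.2.primeIdealOf ⟨x, hxU⟩) ∈ X.basicOpen a := h6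
    have h2 : U.2.fromSpec (U.2.primeIdealOf ⟨x, hxU⟩) = x := U.2.fromSpec_primeIdealOf ⟨x, hxU⟩
    rwa [h2] at h7
  have := Ideal.disjoint_nonZeroDivisors_of_mem_minimalPrimes hmin
  exact Set.disjoint_left.mp this haP ha

/-- A blow-up sends maximal points to maximal points. -/
theorem max_of_blowUp {S S' : Scheme.{u}} {𝓘 : S.IdealSheafData} {b : S' ⟶ S} (hb : BlowUp.IsBlowUp b 𝓘) {y : S'}
    (hy : ∀ z : S', z ⤳ y → z = y) (s : S) (hs : s ⤳ b y) : s = b y := by
  have hiso : IsIso (b ∣_ 𝓘.support.compl) :=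
    Divis.BlowUpFormal.isIso_morphismRestrict_compl_support hb _ disjoint_compl_left
  have hyE := not_mem_support_of_max hb.1 hy
  have hyb : b y ∈ 𝓘.support.compl := by
    intro hc
    apply hyE
    rw [Scheme.IdealSheafData.support_comap]
    exact hc
  have hsU : s ∈ 𝓘.support.compl := hs.mem_open 𝓘.support.compl.2 hyb
  obtain ⟨t, ht⟩ := (b ∣_ 𝓘.support.compl).surjective ⟨s, hsU⟩
  have ht' : b t.1 = s := by
    have := congrArg Subtype.val ht
    rwa [morphismRestrict_base_coe] at this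
  have hyb' : y ∈ b ⁻¹ᵁ 𝓘.support.compl := hyb
  have hsp : t ⤳ (⟨y, hyb'⟩ : (b ⁻¹ᵁ 𝓘.support.compl : S'.Opens)) := by
    apply (b ∣_ 𝓘.support.compl).isOpenEmbedding.isInducing.specializes_iff.mp
    apply (Scheme.Opens.ι (X := S) 𝓘.support.compl).isOpenEmbedding.isInducing.specializes_iff.mp
    have h3 : (Scheme.Opens.ι (X := S) 𝓘.support.compl) ((b ∣_ 𝓘.support.compl) ⟨y, hyb'⟩) = b y :=
      morphismRestrict_base_coe b _ ⟨y, hyb'⟩
    rw [h3, ht]
    exact hs
  have h2 := hy t.1 ((subtype_specializes_iff _ _).mp hsp)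
  rw [← ht', h2]

end Groth.Agent.SDiv.K474.BlowMax
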