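import Groth.Agent.SDiv.K473.Denom
import Groth.Agent.Divis.CartierData
import Groth.Agent.Divis.GenIso
import Groth.Agent.Fdesc.LocGenPullback
import Groth.Agent.Fdesc.LocGenTensor

/-!
# Charts of regular meromorphic sections

For a regular meromorphic section `s = (a / b) e` in a chart:
* `a_mem`: `a` is a regular section;
* `exists_trans`: comparison of two charts;
* `mul_mem`: `g a ∈ (b)` for `g` in the ideal of denominators.
-/

set_option autoImplicit false
universe u

open CategoryTheory CategoryTheory.Limits AlgebraicGeometry TopologicalSpace Opposite Mero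

namespace Groth.Agent.SDiv.K474.Denoms

open K473.Denom K473.MeroReg Fdesc.LocGen K471.MeroSec

variable {X : Scheme.{u}} {L : X.Modules} {s : Γ(merMod L, ⊤)}

theorem a_mem (hs : IsRegularMero L s) (c : Chart L s) : c.a ∈ regSub X c.V := by
  rw [mem_regSub_iff]
  intro x hx
  rw [mem_nonZeroDivisors_iff_right]
  intro g hg
  have h1 := hs x (algebraMap (X.presheaf.stalk x) (KStalk X x) g) (by
    rw [c.eq ⟨x, hx⟩, Mero.germ_smul]
    rw [algebraMap_smul, LocalizedModule.smul'_mk, smul_smul, hg, zero_smul,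
      LocalizedModule.zero_mk])
  have h2 := (IsLocalization.map_eq_zero_iff (regStalk X x) (KStalk X x) g).1 h1
  obtain ⟨m, hm⟩ := h2
  have h3 := regStalk_le_nonZeroDivisors x m.2
  exact (mul_left_mem_nonZeroDivisors_eq_zero_iff h3).1 hm

theorem exists_trans (c d : Chart L s) : ∃ u : Γ(X, c.V ⊓ d.V),
    res L inf_le_left c.e = u • res L inf_le_right d.e ∧
      ores inf_le_left c.a * u * ores inf_le_right d.b.1 =
        ores inf_le_right d.a * ores inf_le_left c.b.1 := by
  obtain ⟨u, hu⟩ := (d.he.res (inf_le_right : c.V ⊓ d.V ≤ d.V)).exists_eq (res L inf_le_left c.e)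
  refine ⟨u, hu, ?_⟩
  refine TopCat.Presheaf.section_ext X.sheaf (c.V ⊓ d.V) _ _ fun x hx => ?_
  change X.presheaf.germ _ x hx _ = X.presheaf.germ _ x hx _
  have h1 := (c.eq ⟨x, hx.1⟩).symm.trans (d.eq ⟨x, hx.2⟩)
  rw [LocalizedModule.mk_eq] at h1
  obtain ⟨m, hm⟩ := h1
  simp only [Submonoid.smul_def] at hm
  rw [Mero.germ_smul, Mero.germ_smul] at hm
  have h2 : L.presheaf.germ c.V x hx.1 c.e =
      X.presheaf.germ (c.V ⊓ d.V) x hx u • L.presheaf.germ d.V x hx.2 d.e := by
    have := congrArg (L.presheaf.germ (c.V ⊓ d.V) x hx) hu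
    rw [Mero.germ_smul, germ_mres, germ_mres] at this
    exact this
  rw [h2] at hm
  simp only [smul_smul] at hm
  rw [← sub_eq_zero, ← sub_smul] at hm
  have h3 := IsGen.germ_smul_eq_zero d.he x hx.2 hm
  have h4 := regStalk_le_nonZeroDivisors x m.2
  rw [map_mul, map_mul, map_mul, germ_res, germ_res, germ_res, germ_res]
  have h5 : (m : X.presheaf.stalk x) * (X.presheaf.germ c.V x hx.1 c.a *
      X.presheaf.germ (c.V ⊓ d.V) x hx u * X.presheaf.germ d.V x hx.2 d.b.1 -
      X.presheaf.germ d.V x hx.2 d.a * X.presheaf.germ c.V x hx.1 c.b.1) = 0 := by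
    rw [← h3]
    change _ = (m : X.presheaf.stalk x) * (X.presheaf.germ d.V x hx.2 d.b.1 * (X.presheaf.germ c.V x hx.1 c.a * _)) -
      (m : X.presheaf.stalk x) * (X.presheaf.germ c.V x hx.1 c.b.1 * X.presheaf.germ d.V x hx.2 d.a)
    ring
  exact sub_eq_zero.1 ((mul_left_mem_nonZeroDivisors_eq_zero_iff h4).1 h5)

theorem denom_mul_mem (hL : PicF.IsInvertible L) (c : Chart L s) {g : Γ(X, c.V)}
    (hg : g ∈ denomIdeal L s c.V) : g * c.a ∈ Ideal.span {c.b.1} := by
  rw [c.hV.mem_ideal_iff]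
  intro y hy
  have h1 := (c.mem_iff hy).1 ((mem_denomIdeal_iff hL).1 hg y hy)
  rw [map_mul, Ideal.map_span, Set.image_singleton]
  exact h1

/-! ### Local data on the blow-up -/

variable {X' : Scheme.{u}} {b : X' ⟶ X} {I : X.IdealSheafData}

variable (L s b I) in
/-- A chart of `s`, an affine open of `X'` above it on which the exceptional ideal is generated by the
regular section `k`, and `h` with `h b = k a`. -/
structure Loc where
  c : Chart L s
  W : X'.affineOpens
  hW : W.1 ≤ b ⁻¹ᵁ c.V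
  k : Γ(X', W.1)
  hk : k ∈ regSub X' W.1
  hE : (I.comap b).ideal W = Ideal.span {k}
  h : Γ(X', W.1)
  hh : h * ores hW (b.app c.V c.b.1) = k * ores hW (b.app c.V c.a)

theorem exists_loc (hL : PicF.IsInvertible L) (hb : BlowUp.IsBlowUp b I)
    (hI : ∀ V : X.affineOpens, I.ideal V = denomIdeal L s V.1) (y : X') :
    ∃ d : Loc L s b I, y ∈ d.W.1 := by
  obtain ⟨c, hxc, -⟩ := exists_chart (s := s) hL (b y) ⊤ trivial
  obtain ⟨W, hyW, hW, k, hk, hE⟩ := Divis.EffCartier.exists_princAt hb.1 y (b ⁻¹ᵁ c.V) hxc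
  have h1 : ∀ g ∈ (I.comap b).ideal W, g * ores hW (b.app c.V c.a) ∈
      Ideal.span {ores hW (b.app c.V c.b.1)} := by
    intro g hg
    rw [Divis.IdealComap.ideal_comap I b ⟨c.V, c.hV⟩ W hW] at hg
    induction hg using Submodule.span_induction with
    | mem z hz =>
      obtain ⟨g₀, hg₀, rfl⟩ := hz
      have h2 := denom_mul_mem hL c (g := g₀) (by rw [← hI ⟨c.V, c.hV⟩]; exact hg₀)
      obtain ⟨r, hr⟩ := Ideal.mem_span_singleton'.1 h2
      refine Ideal.mem_span_singleton'.2 ⟨ores hW (b.app c.V r), ?_⟩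
      have h3 := congrArg (fun z => ores hW (b.app c.V z)) hr
      dsimp only at h3
      rw [map_mul, map_mul, map_mul, map_mul] at h3
      exact h3
    | zero => rw [zero_mul]; exact Ideal.zero_mem _
    | add x y _ _ hx hy => rw [add_mul]; exact Ideal.add_mem _ hx hy
    | smul r x _ hx => rw [smul_eq_mul, mul_assoc]; exact Ideal.mul_mem_left _ _ hx
  obtain ⟨h, hh⟩ := Ideal.mem_span_singleton'.1 (h1 k (by rw [hE]; exact Ideal.mem_span_singleton_self k))
  exact ⟨⟨c, W, hW, k, (mem_regSub_affine_iff W.2).2 hk, hE, h, hh⟩, hyW⟩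

theorem ores_mem {U V : X'.Opens} (h : V ≤ U) {a : Γ(X', U)} (ha : a ∈ regSub X' U) :
    ores h a ∈ regSub X' V := regSub_res (homOfLE h) ha

namespace Loc

variable (d d' : Loc L s b I)

noncomputable def α : Γ(X', d.W.1) := ores d.hW (b.app d.c.V d.c.a)
noncomputable def β : Γ(X', d.W.1) := ores d.hW (b.app d.c.V d.c.b.1)
noncomputable def e : Γ((Scheme.Modules.pullback b).obj L, d.W.1) := res _ d.hW (pullSec b d.c.e)

theorem isGen_e : IsGen d.e := (d.c.he.pullSec b).res d.hW

theorem rel : d.h * d.β = d.k * d.α := d.hh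

variable {d} in
theorem α_mem (hb : BlowUp.IsBlowUp b I) (hs : IsRegularMero L s) : d.α ∈ regSub X' d.W.1 :=
  ores_mem d.hW (app_mem_regSub_of_isBlowUp hb (a_mem hs d.c))

variable {d} in
theorem β_mem (hb : BlowUp.IsBlowUp b I) : d.β ∈ regSub X' d.W.1 :=
  ores_mem d.hW (app_mem_regSub_of_isBlowUp hb d.c.b.2)

variable {d} in
theorem h_mem (hb : BlowUp.IsBlowUp b I) (hs : IsRegularMero L s) : d.h ∈ regSub X' d.W.1 := by
  rw [mem_regSub_iff]
  intro x hx
  have h1 := mem_regSub_iff.1 (Submonoid.mul_mem _ d.hk (α_mem (d := d) hb hs)) x hx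
  rw [← d.rel, map_mul] at h1
  exact (mul_mem_nonZeroDivisors.1 h1).1

theorem exists_trans {O : X'.Opens} (hO : O ≤ d.W.1) (hO' : O ≤ d'.W.1) :
    ∃ u : Γ(X', O), res _ hO d.e = u • res _ hO' d'.e ∧
      ores hO d.α * u * ores hO' d'.β = ores hO' d'.α * ores hO d.β := by
  obtain ⟨u₀, h1, h2⟩ := Denoms.exists_trans d.c d'.c
  have hOV : O ≤ b ⁻¹ᵁ (d.c.V ⊓ d'.c.V) := fun x hx => ⟨d.hW (hO hx), d'.hW (hO' hx)⟩
  refine ⟨ores hOV (b.app _ u₀), ?_, ?_⟩
  · have h3 : res ((Scheme.Modules.pullback b).obj L) hOV (pullSec b (res L inf_le_left d.c.e)) =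
        res _ hOV (pullSec b (u₀ • res L inf_le_right d'.c.e)) := by rw [h1]
    rw [pullSec_smul, res_smul, ← res_pullSec, ← res_pullSec, res_res, res_res] at h3
    rw [e, e, res_res, res_res]
    exact h3
  · have key : ∀ {V V' : X.Opens} (h : V' ≤ V) (hV : O ≤ b ⁻¹ᵁ V') (z : Γ(X, V)),
        ores hV (b.app V' (ores h z)) = ores (hV.trans (b.preimage_mono h)) (b.app V z) := by
      intro V V' h hV z
      have h0 := congr($(b.naturality (homOfLE h).op) z)
      have h1 : b.app V' (ores h z) = ores (b.preimage_mono h) (b.app V z) := h0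
      rw [h1, ores_ores]
    have h3 : ores hOV (b.app _ (ores inf_le_left d.c.a * u₀ * ores inf_le_right d'.c.b.1)) =
        ores hOV (b.app _ (ores inf_le_right d'.c.a * ores inf_le_left d.c.b.1)) := by rw [h2]
    simp only [map_mul, key] at h3
    rw [α, β, α, β, ores_ores, ores_ores, ores_ores, ores_ores]
    exact h3

variable {d d'} in
theorem ratio (hb : BlowUp.IsBlowUp b I) {O : X'.Opens} (hO : O ≤ d.W.1) (hO' : O ≤ d'.W.1)
    {u t : Γ(X', O)} (hu : ores hO d.α * u * ores hO' d'.β = ores hO' d'.α * ores hO d.β)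
    (ht : ores hO d.k = t * ores hO' d'.k) : ores hO d.h * u = t * ores hO' d'.h := by
  have hβ := mem_nonZeroDivisors_of_mem_regSub (ores_mem hO (β_mem (d := d) hb))
  have hβ' := mem_nonZeroDivisors_of_mem_regSub (ores_mem hO' (β_mem (d := d') hb))
  have h1 := congrArg (ores hO) d.rel
  have h2 := congrArg (ores hO') d'.rel
  rw [map_mul, map_mul] at h1 h2
  refine (mul_cancel_right_mem_nonZeroDivisors hβ).1 ((mul_cancel_right_mem_nonZeroDivisors hβ').1 ?_)
  calc ores hO d.h * u * ores hO d.β * ores hO' d'.β =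
      (ores hO d.h * ores hO d.β) * (u * ores hO' d'.β) := by ring
    _ = ores hO d.k * (ores hO d.α * u * ores hO' d'.β) := by rw [h1]; ring
    _ = t * (ores hO' d'.k * ores hO' d'.α) * ores hO d.β := by rw [hu, ht]; ring
    _ = _ := by rw [← h2]; ring

variable {d d'} in
theorem exists_unit (V : X'.affineOpens) (hO : V.1 ≤ d.W.1) (hO' : V.1 ≤ d'.W.1) :
    ∃ t : Γ(X', V.1), IsUnit t ∧ ores hO d.k = t * ores hO' d'.k := by
  have h1 : ∀ (d : Loc L s b I) (h : V.1 ≤ d.W.1), (I.comap b).ideal V = Ideal.span {ores h d.k} := by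
    intro d h
    rw [← (I.comap b).map_ideal (U := V) (V := d.W) h, d.hE, Ideal.map_span, Set.image_singleton]
    rfl
  have h2 : ores hO d.k ∈ Ideal.span {ores hO' d'.k} := by
    rw [← h1, h1 d hO]; exact Ideal.mem_span_singleton_self _
  have h3 : ores hO' d'.k ∈ Ideal.span {ores hO d.k} := by
    rw [← h1, h1 d' hO']; exact Ideal.mem_span_singleton_self _
  obtain ⟨t, ht⟩ := Ideal.mem_span_singleton'.1 h2
  obtain ⟨r, hr⟩ := Ideal.mem_span_singleton'.1 h3
  refine ⟨t, ?_, ht.symm⟩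
  have hk := mem_nonZeroDivisors_of_mem_regSub (ores_mem hO d.hk)
  refine IsUnit.of_mul_eq_one r ((mul_cancel_right_mem_nonZeroDivisors hk).1 ?_)
  rw [one_mul, mul_assoc, hr, ht]

variable {d d'} in
theorem span_h_le (hb : BlowUp.IsBlowUp b I) (V : X'.affineOpens) (hO : V.1 ≤ d.W.1)
    (hO' : V.1 ≤ d'.W.1) : Ideal.span {ores hO d.h} ≤ Ideal.span {ores hO' d'.h} := by
  obtain ⟨u, hu, hu'⟩ := exists_trans d d' hO hO'
  obtain ⟨t, -, ht⟩ := exists_unit (d := d) (d' := d') V hO hO'
  have hun : IsUnit u := (d'.isGen_e.res hO').isUnit_of_smul (by rw [← hu]; exact d.isGen_e.res hO)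
  have h1 := ratio hb hO hO' hu' ht
  rw [Ideal.span_singleton_le_iff_mem, Ideal.mem_span_singleton']
  refine ⟨↑hun.unit⁻¹ * t, ?_⟩
  rw [mul_assoc, ← h1, mul_comm (ores hO d.h) u, ← mul_assoc, hun.val_inv_mul, one_mul]

end Loc

/-- The blow-up of the ideal of denominators: `b^*L ⊗ I_D ≅ I_E`. -/
theorem exists_divisor (hL : PicF.IsInvertible L) (hs : IsRegularMero L s) (hb : BlowUp.IsBlowUp b I)
    (hI : ∀ V : X.affineOpens, I.ideal V = denomIdeal L s V.1) :
    ∃ 𝓓 : X'.IdealSheafData, BlowUp.IsEffCartierIdeal 𝓓 ∧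
      Nonempty (CohB1.tensorMod ((Scheme.Modules.pullback b).obj L) (ClSub.idealMod 𝓓) ≅
        ClSub.idealMod (I.comap b)) := by
  choose d hd using exists_loc (s := s) hL hb hI
  have hcov : ⨆ i, (d i).W.1 = ⊤ := top_le_iff.1 fun y _ => Opens.mem_iSup.2 ⟨y, hd y⟩
  obtain ⟨D, hD⟩ := Divis.CartierData.exists_ideal (fun y => (d y).W) hcov (fun y => (d y).h)
    (fun i j V hi hj => le_antisymm (Loc.span_h_le hb V hi hj) (Loc.span_h_le hb V hj hi))
  have hE : ∀ (i : X') (V : X'.affineOpens) (hi : V.1 ≤ (d i).W.1),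
      (I.comap b).ideal V = Ideal.span {ores hi (d i).k} := by
    intro i V h
    rw [← (I.comap b).map_ideal (U := V) (V := (d i).W) h, (d i).hE, Ideal.map_span,
      Set.image_singleton]
    rfl
  have hh : ∀ i, (d i).h ∈ nonZeroDivisors Γ(X', (d i).W.1) := fun i =>
    mem_nonZeroDivisors_of_mem_regSub (Loc.h_mem hb hs)
  have hk : ∀ i, (d i).k ∈ nonZeroDivisors Γ(X', (d i).W.1) := fun i =>
    mem_nonZeroDivisors_of_mem_regSub (d i).hk
  refine ⟨D, Divis.CartierData.isEffCartierIdeal hcov hD hh, ?_⟩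
  choose δ hδ hδg using Divis.CartierData.exists_gen hD hh
  choose ε hε hεg using Divis.CartierData.exists_gen hE hk
  have hG : ∀ i, IsGen (tmul (d i).e (δ i)) := fun i => IsGen.tmul (d i).isGen_e (hδg i)
  have htr : ∀ i j, ∃ t : Γ(X', (d i).W.1 ⊓ (d j).W.1),
      res _ inf_le_left (ε i) = t • res _ inf_le_right (ε j) ∧
      res _ inf_le_left (tmul (d i).e (δ i)) = t • res _ inf_le_right (tmul (d j).e (δ j)) := by
    intro i j
    obtain ⟨t, ht⟩ := ((hεg j).res (inf_le_right : (d i).W.1 ⊓ (d j).W.1 ≤ (d j).W.1)).exists_eq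
      (res _ inf_le_left (ε i))
    refine ⟨t, ht, ?_⟩
    obtain ⟨w, hw⟩ := ((hδg j).res (inf_le_right : (d i).W.1 ⊓ (d j).W.1 ≤ (d j).W.1)).exists_eq
      (res _ inf_le_left (δ i))
    obtain ⟨u, hu, hu'⟩ := Loc.exists_trans (d i) (d j) (O := (d i).W.1 ⊓ (d j).W.1) inf_le_left
      inf_le_right
    have h1 : ores inf_le_left (d i).k = t * ores inf_le_right (d j).k := by
      have := congrArg (PerfA.IdealModule.val _) ht
      rw [PerfA.IdealModule.val_smul] at this
      rw [← hε i, ← hε j]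
      exact (PerfA.IdealModule.val_res _ _ _).symm.trans (this.trans
        (congrArg (t * ·) (PerfA.IdealModule.val_res _ _ _)))
    have h2 : ores inf_le_left (d i).h = w * ores inf_le_right (d j).h := by
      have := congrArg (PerfA.IdealModule.val _) hw
      rw [PerfA.IdealModule.val_smul] at this
      rw [← hδ i, ← hδ j]
      exact (PerfA.IdealModule.val_res _ _ _).symm.trans (this.trans
        (congrArg (w * ·) (PerfA.IdealModule.val_res _ _ _)))
    have h3 := Loc.ratio hb inf_le_left inf_le_right hu' h1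
    rw [h2] at h3
    have h4 := mem_nonZeroDivisors_of_mem_regSub
      (ores_mem (inf_le_right : (d i).W.1 ⊓ (d j).W.1 ≤ (d j).W.1) (Loc.h_mem (d := d j) hb hs))
    have h5 : u * w = t := (mul_cancel_right_mem_nonZeroDivisors h4).1 (by
      rw [← h3]; ring)
    rw [res_tmul, res_tmul, hu, hw, smul_tmul, tmul_smul, smul_smul, h5]
  choose t ht1 ht2 using htr
  exact Divis.GenIso.nonempty_iso_of_gens (W := fun i => (d i).W.1) hcov
    (s := fun i => tmul (d i).e (δ i)) (t := ε) (fun i => hG i) (fun i => hεg i) t ht2 ht1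

/-- The complement of the support of the ideal of denominators is the domain of definition. -/
theorem compl_support_eq (hL : PicF.IsInvertible L)
    (hI : ∀ V : X.affineOpens, I.ideal V = denomIdeal L s V.1) :
    ((I.support.compl : X.Opens) : Set X) = Mero.domain L s := by
  ext x
  constructor
  · intro hx
    obtain ⟨V, hV, hxV, hVI⟩ := exists_isAffineOpen_mem_and_subset (x := x) (U := I.support.compl) hx
    have h1 : I.ideal ⟨V, hV⟩ = ⊤ := by
      by_contra hcon
      obtain ⟨p, hp, hle⟩ := Ideal.exists_le_maximal _ hcon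
      have hy : hV.fromSpec ⟨p, hp.isPrime⟩ ∈ V := by
        have := hV.range_fromSpec
        exact this.le ⟨_, rfl⟩
      refine hVI hy ((Scheme.IdealSheafData.mem_support_iff_of_mem (U := ⟨V, hV⟩) hy).2 ?_)
      rw [Scheme.mem_zeroLocus_iff]
      intro g hg hn
      have := hV.isOpenImmersion_fromSpec
      have h2 : (⟨p, hp.isPrime⟩ : PrimeSpectrum Γ(X, V)) ∈ hV.fromSpec ⁻¹ᵁ X.basicOpen g := hn
      rw [hV.fromSpec_preimage_basicOpen] at h2
      exact h2 (hle hg)
    have h3 : (1 : Γ(X, V)) ∈ denomIdeal L s V := by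
      rw [← hI ⟨V, hV⟩, h1]; trivial
    obtain ⟨m, hm⟩ := h3
    refine ⟨V, hxV, m, fun y => ?_⟩
    have h4 := hm y
    rw [map_one, one_smul] at h4
    exact h4
  · rintro ⟨V, hxV, m, hm⟩ hx
    obtain ⟨V', hV', hxV', hle⟩ := exists_isAffineOpen_mem_and_subset (x := x) (U := V) hxV
    have h1 : (1 : Γ(X, V')) ∈ I.ideal ⟨V', hV'⟩ := by
      rw [hI ⟨V', hV'⟩]
      refine ⟨res L hle m, fun y => ?_⟩
      rw [map_one, one_smul]
      refine (hm ⟨y.1, hle y.2⟩).trans ?_
      rw [toMerFun_apply, LocalizedModule.mkLinearMap_apply]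
      exact mk_congr (germ_mres hle y.1 y.2 m).symm rfl
    have hx' := (Scheme.mem_zeroLocus_iff _ _ _).1
      ((Scheme.IdealSheafData.mem_support_iff_of_mem (U := ⟨V', hV'⟩) hxV').1 hx)
    refine hx' 1 h1 ?_
    rw [Scheme.basicOpen_of_isUnit _ isUnit_one]
    exact hxV'

end Groth.Agent.SDiv.K474.Denoms
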