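import Groth.Agent.SDiv.K474.MinGen
import Groth.Agent.RegImm.K559.ConSplit
import Groth.Agent.Dcoh.Restrict

/-!
# Pairs of immersions with a locally split conormal sequence: adapted generators
-/

set_option autoImplicit false
universe u

open CategoryTheory CategoryTheory.Limits AlgebraicGeometry Opposite TopologicalSpace
open Groth.Agent.Sga67.KosStalk Groth.Agent.Sga67.KosImm Groth.Agent.Sga67.KosConormal
open K559.ConSt K559.StIdeal K559.ConSeq K559.ConSplit K559.Basic K559.Gen K559.GenDesc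
open Groth.Agent.SDiv.K474.MinGen

namespace Groth.Agent.SDiv.K474.ConPerm

variable {X Y Z : Scheme.{u}}

theorem ker_fg {A B : Type u} [CommRing A] [CommRing B] (f : A →+* B)
    (hf : f.FinitePresentation) (hs : Function.Surjective f) : (RingHom.ker f).FG := by
  algebraize [f]
  exact Algebra.FinitePresentation.ker_fG_of_surjective (Algebra.ofId A B) hs

theorem ker_app_fg (i : Y ⟶ X) [LocallyOfFinitePresentation i] {U : X.Opens} (hU : IsAffineOpen U)
    (hi : IsClosedImmersion (i ∣_ U)) : (RingHom.ker (i.app U).hom).FG := by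
  refine ker_fg _ ?_ (app_surjective hU hi)
  have h1 := i.finitePresentation_appLE hU (isAffineOpen_preimage hU hi) le_rfl
  rwa [Scheme.Hom.appLE_eq_app] at h1

lemma ker_le_ker_comp (i : Y ⟶ X) (j : Z ⟶ Y) (U : X.Opens) :
    RingHom.ker (i.app U).hom ≤ RingHom.ker ((j ≫ i).app U).hom := by
  rw [K559.Koszul.ker_comp_app]
  intro a ha
  rw [Ideal.mem_comap, RingHom.mem_ker.1 ha]
  exact Ideal.zero_mem _

/-- Adapted generators near a point. -/
theorem exists_local {S : ∀ (R : Type u) [CommRing R], List R → Prop} (hS : Good S)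
    {i : Y ⟶ X} {j : Z ⟶ Y} [IsImmersion i] [IsPreimmersion j] [LocallyOfFinitePresentation i]
    {z : Z} (hij : SAt S (j ≫ i) ((j ≫ i) z))
    (h : ∀ w : X.presheaf.stalk (i (j z)), w ∈ kr i (j z) →
      w ∈ IsLocalRing.maximalIdeal (X.presheaf.stalk (i (j z))) * krc i j z →
      w ∈ IsLocalRing.maximalIdeal (X.presheaf.stalk (i (j z))) * kr i (j z)) :
    ∃ (W : X.Opens) (fs hs : List Γ(X, W)), IsAffineOpen W ∧ i (j z) ∈ W ∧
      IsClosedImmersion (i ∣_ W) ∧ IsClosedImmersion ((j ≫ i) ∣_ W) ∧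
      RingHom.ker (i.app W).hom = Ideal.ofList fs ∧
      RingHom.ker ((j ≫ i).app W).hom = Ideal.ofList (fs ++ hs) ∧ S Γ(X, W) (fs ++ hs) := by
  obtain ⟨U, hxU, hclU, gs₀, hgs₀, hkerU⟩ := hij
  obtain ⟨V, hxV, hVU, hcli⟩ := exists_affine (i := i) (j z) U.1 hxU
  obtain ⟨hclij, gs, hgs, hkerij⟩ := mono_aux hS.flat U.2 hclU hgs₀ hkerU V.2 hVU
  have hI0fg : (RingHom.ker (i.app V.1).hom).FG := ker_app_fg i V.2 hcli
  let := TopCat.Presheaf.algebra_section_stalk X.presheaf ⟨i (j z), hxV⟩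
  have hloc : IsLocalization.AtPrime (X.presheaf.stalk (i (j z)))
    (V.2.primeIdealOf ⟨i (j z), hxV⟩).asIdeal := V.2.isLocalization_stalk ⟨i (j z), hxV⟩
  have hI : kr i (j z) = (RingHom.ker (i.app V.1).hom).map (gO X hxV) :=
    ker_stalkMap V.2 hcli (j z) hxV
  have hJ : krc i j z = (RingHom.ker ((j ≫ i).app V.1).hom).map (gO X hxV) := by
    rw [← kr_comp]
    exact ker_stalkMap V.2 hclij z hxV
  obtain ⟨fs, hs, hfs, hhs, hfsI, hfsJ, hlen⟩ := exists_adapted (gO X hxV) hkerij hI0fg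
    (ker_le_ker_comp i j V.1) (by rw [← hI, ← hJ]; exact h)
  -- spread out
  obtain ⟨a, ha, haN⟩ := exists_mul_mem (R := X.presheaf.stalk (i (j z)))
    (V.2.primeIdealOf ⟨i (j z), hxV⟩).asIdeal (N := Ideal.ofList fs) hI0fg (by
      rw [Ideal.map_ofList]
      exact hfsI.le)
  have hJ0fg : (RingHom.ker ((j ≫ i).app V.1).hom).FG := by
    classical
    rw [hkerij]
    exact ⟨gs.toFinset, by rw [List.coe_toFinset]⟩
  obtain ⟨b, hb, hbN⟩ := exists_mul_mem (R := X.presheaf.stalk (i (j z)))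
    (V.2.primeIdealOf ⟨i (j z), hxV⟩).asIdeal (N := Ideal.ofList (fs ++ hs)) hJ0fg (by
      rw [Ideal.map_ofList]
      exact hfsJ.le)
  have hxa : i (j z) ∈ X.basicOpen (a * b) := by
    rw [X.mem_basicOpen (a * b) (i (j z)) hxV]
    refine (IsLocalization.AtPrime.isUnit_to_map_iff (X.presheaf.stalk (i (j z)))
      (V.2.primeIdealOf ⟨i (j z), hxV⟩).asIdeal (a * b)).2 ?_
    exact fun hab => (Ideal.IsPrime.mem_or_mem inferInstance hab).elim ha hb
  let W : X.Opens := X.basicOpen (a * b)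
  have hW : IsAffineOpen W := V.2.basicOpen (a * b)
  have hWV : W ≤ V.1 := X.basicOpen_le (a * b)
  let res : Γ(X, V.1) →+* Γ(X, W) := (X.presheaf.map (homOfLE hWV).op).hom
  have huab : IsUnit (res (a * b)) := RingedSpace.isUnit_res_basicOpen _ (a * b)
  rw [map_mul, IsUnit.mul_iff] at huab
  have hclW : IsClosedImmersion (i ∣_ W) := isClosedImmersion_restrict_of_le hWV hcli
  have hclW' : IsClosedImmersion ((j ≫ i) ∣_ W) := isClosedImmersion_restrict_of_le hWV hclij
  have hkerW : RingHom.ker ((j ≫ i).app W).hom = Ideal.ofList (fs.map res ++ hs.map res) := by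
    rw [← List.map_append, ker_app_of_le V.2 hW hWV hclij, ← Ideal.map_ofList]
    apply le_antisymm
    · rw [Ideal.map_le_iff_le_comap]
      intro g hg
      have h1 := Ideal.mem_map_of_mem res (hbN g hg)
      rw [map_mul] at h1
      exact (Ideal.unit_mul_mem_iff_mem _ huab.2).1 h1
    · refine Ideal.map_mono ?_
      rw [Ideal.ofList, Ideal.span_le]
      intro g hg
      rcases List.mem_append.1 hg with h | h
      · exact ker_le_ker_comp i j V.1 (hfs g h)
      · exact hhs g h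
  have hkerW' : RingHom.ker (i.app W).hom = Ideal.ofList (fs.map res) := by
    rw [ker_app_of_le V.2 hW hWV hcli, ← Ideal.map_ofList]
    apply le_antisymm
    · rw [Ideal.map_le_iff_le_comap]
      intro g hg
      have h1 := Ideal.mem_map_of_mem res (haN g hg)
      rw [map_mul] at h1
      exact (Ideal.unit_mul_mem_iff_mem _ huab.1).1 h1
    · refine Ideal.map_mono ?_
      rw [Ideal.ofList, Ideal.span_le]
      exact fun g hg => hfs g hg
  refine ⟨W, fs.map res, hs.map res, hW, hxa, hclW, hclW', hkerW', hkerW, ?_⟩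
  refine of_span_eq hS (hS.flat _ _ res (flat_res V.2 hW hWV) gs hgs) ?_ ?_
  · rw [← hkerW, ker_app_of_le V.2 hW hWV hclij, hkerij, Ideal.map_ofList]
  · rw [← List.map_append, List.length_map, List.length_map, hlen]

/-- The second immersion of a pair with adapted generators. -/
theorem sAt_second {S : ∀ (R : Type u) [CommRing R], List R → Prop}
    {i : Y ⟶ X} {j : Z ⟶ Y} {z : Z} {W : X.Opens} {fs hs : List Γ(X, W)} (hW : IsAffineOpen W)
    (hx : i (j z) ∈ W) (hcl : IsClosedImmersion (i ∣_ W)) (hcl' : IsClosedImmersion ((j ≫ i) ∣_ W))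
    (hker : RingHom.ker (i.app W).hom = Ideal.ofList fs)
    (hker' : RingHom.ker ((j ≫ i).app W).hom = Ideal.ofList (fs ++ hs))
    (h : S Γ(Y, i ⁻¹ᵁ W) (hs.map (i.app W).hom)) : SAt S j (j z) := by
  have hclj : IsClosedImmersion (j ∣_ i ⁻¹ᵁ W) := by
    rw [morphismRestrict_comp] at hcl'
    have h1 : IsClosedImmersion (j ∣_ i ⁻¹ᵁ W ≫ i ∣_ W) := hcl'
    exact IsClosedImmersion.of_comp_isClosedImmersion (j ∣_ i ⁻¹ᵁ W) (i ∣_ W)
  have hsurj := app_surjective hW hcl
  refine ⟨⟨i ⁻¹ᵁ W, isAffineOpen_preimage hW hcl⟩, hx, hclj, hs.map (i.app W).hom, h, ?_⟩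
  have h1 := congrArg (Ideal.map (i.app W).hom) hker'
  rw [K559.Koszul.ker_comp_app, Ideal.map_comap_of_surjective _ hsurj, Ideal.ofList_append, Ideal.map_sup,
    ← hker, Ideal.map_ofList] at h1
  have h2 : Ideal.map (i.app W).hom (RingHom.ker (i.app W).hom) = ⊥ := by
    rw [Ideal.map_eq_bot_iff_le_ker]
  rw [h1, h2, bot_sup_eq]

/-- Permanence for kinds with the truncation property. -/
theorem sAt_of_split {S : ∀ (R : Type u) [CommRing R], List R → Prop} (hS : Good S) (hT : Trunc S)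
    {i : Y ⟶ X} {j : Z ⟶ Y} [IsImmersion i] [IsPreimmersion j] [LocallyOfFinitePresentation i]
    {z : Z} (hij : SAt S (j ≫ i) ((j ≫ i) z))
    (h : ∀ w : X.presheaf.stalk (i (j z)), w ∈ kr i (j z) →
      w ∈ IsLocalRing.maximalIdeal (X.presheaf.stalk (i (j z))) * krc i j z →
      w ∈ IsLocalRing.maximalIdeal (X.presheaf.stalk (i (j z))) * kr i (j z)) : SAt S j (j z) := by
  obtain ⟨W, fs, hs, hW, hx, hcl, hcl', hker, hker', hSW⟩ := exists_local hS hij h
  exact sAt_second hW hx hcl hcl' hker hker' (trunc_append hT hS.flat _ fs rfl hs hSW _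
    (app_surjective hW hcl) hker)

/-- A local section of the second map of a short exact sequence gives a local retraction of the first. -/
theorem exists_retraction_of_section {T : ShortComplex Z.Modules} (hT : T.ShortExact) (U : Z.Opens)
    (r : (Scheme.Modules.restrictFunctor U.ι).obj T.X₃ ⟶ (Scheme.Modules.restrictFunctor U.ι).obj T.X₂)
    (hr : r ≫ (Scheme.Modules.restrictFunctor U.ι).map T.g = 𝟙 _) :
    ∃ ρ : (Scheme.Modules.restrictFunctor U.ι).obj T.X₂ ⟶ (Scheme.Modules.restrictFunctor U.ι).obj T.X₁,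
      (Scheme.Modules.restrictFunctor U.ι).map T.f ≫ ρ = 𝟙 _ := by
  have h : (T.map (Scheme.Modules.restrictFunctor U.ι)).ShortExact := hT.map_of_exact _
  let sp := ShortComplex.Splitting.ofExactOfSection _ h.exact r hr h.mono_f
  exact ⟨sp.r, sp.f_r⟩

end Groth.Agent.SDiv.K474.ConPerm
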