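import Groth.Agent.SDiv.K474.ConPerm
import Groth.Agent.SDiv.K474.ConShort
import Groth.Agent.SDiv.K473.RegImmCalc
import Groth.Agent.SDiv.K470.RelRegFib
import Groth.Agent.Divis.RegStalk
import Groth.Agent.Divis.RegSpread
import Groth.Agent.Fixpt.H906.SecTot

/-!
# Regular immersions into locally Noetherian schemes: stalks, compositions, split conormal sequences
-/

set_option autoImplicit false
universe u

open CategoryTheory CategoryTheory.Limits AlgebraicGeometry Opposite TopologicalSpace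
open RingTheory.Sequence
open Groth.Agent.Sga67.KosStalk Groth.Agent.Sga67.KosImm Groth.Agent.Sga67.KosConormal
open K559.ConSt K559.StIdeal K559.ConSeq K559.ConSplit K559.Basic K559.Gen K559.GenDesc
open Groth.Agent.SDiv.K474.MinGen Groth.Agent.SDiv.K474.ConPerm
open Groth.Agent.Divis.RegImm Groth.Agent.Divis.RegStalk Groth.Agent.Divis.RegSpread

namespace Groth.Agent.SDiv.K474.ConNoeth

variable {X Y Z : Scheme.{u}}

theorem ofList_fg {A : Type*} [CommRing A] (l : List A) : (Ideal.ofList l).FG := by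
  classical
  exact ⟨l.toFinset, by rw [List.coe_toFinset]⟩

/-- Regularity of an immersion into a locally Noetherian scheme can be read off on the stalk. -/
theorem regularAt_iff_stalk [IsLocallyNoetherian X] (i : Z ⟶ X) [IsImmersion i] (z : Z) :
    RegImm.IsRegularImmersionAt .regular i z ↔ ∃ rs : List (X.presheaf.stalk (i z)),
      IsWeaklyRegular (X.presheaf.stalk (i z)) rs ∧ kr i z = Ideal.ofList rs := by
  constructor
  · rintro ⟨U, hzU, hcl, rs, hrs, hker⟩
    refine ⟨rs.map (gO X hzU), ?_, ?_⟩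
    · exact isWeaklyRegular_map_of_flat _ (flat_germ U.2 hzU) (((isRegular_iff_ne_top rs).1 hrs).1)
    · rw [K559.StIdeal.ker_stalkMap U.2 hcl z hzU, hker, Ideal.map_ofList]
  · rintro ⟨rs, hrs, hI⟩
    obtain ⟨V₀, hxV₀, as₀, has₀⟩ := exists_list_germ (i z) rs
    obtain ⟨V, hxV, hVV₀, hcl⟩ := exists_affine (i := i) z V₀.1 hxV₀
    obtain ⟨as, has⟩ : ∃ as : List Γ(X, V.1), as.map (X.presheaf.germ V.1 (i z) hxV).hom = rs := by
      refine ⟨as₀.map (X.presheaf.map (homOfLE hVV₀).op).hom, ?_⟩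
      rw [List.map_map, ← has₀]
      refine List.map_congr_left fun b _ ↦ ?_
      exact X.presheaf.germ_res_apply (homOfLE hVV₀) (i z) hxV b
    subst has
    have : IsNoetherianRing Γ(X, V.1) := IsLocallyNoetherian.component_noetherian V
    let := X.presheaf.algebra_section_stalk ⟨i z, hxV⟩
    have := V.2.isLocalization_stalk ⟨i z, hxV⟩
    obtain ⟨f, hf, Hf⟩ := exists_isWeaklyRegular_of_atPrime' (V.2.primeIdealOf ⟨i z, hxV⟩).asIdeal
      (X.presheaf.stalk (i z)) as hrs
    obtain ⟨g, hg, Hg⟩ := exists_map_eq_of_atPrime (V.2.primeIdealOf ⟨i z, hxV⟩).asIdeal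
      (X.presheaf.stalk (i z)) (RingHom.ker (i.app V.1).hom) (Ideal.ofList as) (IsNoetherian.noetherian _)
      (IsNoetherian.noetherian _)
      (by rw [Ideal.map_ofList]; exact (K559.StIdeal.ker_stalkMap V.2 hcl z hxV).symm.trans hI)
    have hfg : f * g ∈ (V.2.primeIdealOf ⟨i z, hxV⟩).asIdeal.primeCompl := mul_mem hf hg
    have hu : IsUnit ((X.presheaf.germ V.1 (i z) hxV).hom (f * g)) :=
      IsLocalization.map_units (X.presheaf.stalk (i z))
        (⟨f * g, hfg⟩ : (V.2.primeIdealOf ⟨i z, hxV⟩).asIdeal.primeCompl)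
    have hxfg : i z ∈ X.basicOpen (f * g) := (X.mem_basicOpen _ (i z) hxV).mpr hu
    have hres : IsUnit ((X.presheaf.map (homOfLE (X.basicOpen_le (f * g))).op).hom (f * g)) :=
      RingedSpace.isUnit_res_basicOpen _ (f * g)
    rw [map_mul] at hres
    have hker : RingHom.ker (i.app (X.basicOpen (f * g))).hom = Ideal.ofList
        (as.map (X.presheaf.map (homOfLE (X.basicOpen_le (f * g))).op).hom) := by
      rw [ker_app_of_le V.2 (V.2.basicOpen (f * g)) (X.basicOpen_le (f * g)) hcl]
      refine (Hg _ (X.presheaf.map (homOfLE (X.basicOpen_le (f * g))).op).hom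
        (isUnit_of_mul_isUnit_right hres)).trans ?_
      rw [Ideal.map_ofList]
    refine ⟨X.affineBasicOpen (f * g), hxfg, isClosedImmersion_restrict_of_le (X.basicOpen_le (f * g)) hcl,
      as.map (X.presheaf.map (homOfLE (X.basicOpen_le (f * g))).op).hom, ?_, hker⟩
    refine (isRegular_iff_ne_top _).2 ⟨?_, ?_⟩
    · have hflat := Groth.Agent.Divis.RegImm.flat_res V.2 (X.affineBasicOpen (f * g)).2 (X.basicOpen_le (f * g))
      let := (X.presheaf.map (homOfLE (X.basicOpen_le (f * g))).op).hom.toAlgebra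
      have : Module.Flat Γ(X, V.1) Γ(X, X.basicOpen (f * g)) := hflat
      exact Hf _ (isUnit_of_mul_isUnit_left hres)
    · exact fun htop => K473.RegImmCalc.ker_app_ne_top (i := i) (z := z) hxfg (hker.trans htop)

theorem isLocallyNoetherian_of_immersion (j : Y ⟶ X) [IsImmersion j] [IsLocallyNoetherian X] :
    IsLocallyNoetherian Y := LocallyOfFiniteType.isLocallyNoetherian j

/-- Compositions of regular immersions, pointwise. -/
theorem regularAt_comp [IsLocallyNoetherian X] (i : Z ⟶ Y) (j : Y ⟶ X) [IsImmersion i] [IsImmersion j]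
    (z : Z) (hi : RegImm.IsRegularImmersionAt .regular i z)
    (hj : RegImm.IsRegularImmersionAt .regular j (i z)) :
    RegImm.IsRegularImmersionAt .regular (i ≫ j) z := by
  have := isLocallyNoetherian_of_immersion j
  rw [regularAt_iff_stalk] at hi hj ⊢
  obtain ⟨ss, hss, hI⟩ := hi
  obtain ⟨rs, hrs, hJ⟩ := hj
  obtain ⟨ts, rfl⟩ := exists_lift_list (j.stalkMap (i z)).hom (j.stalkMap_surjective (i z)) ss
  refine ⟨rs ++ ts, (isWeaklyRegular_append_of_surjective (j.stalkMap (i z)).hom
    (j.stalkMap_surjective (i z)) rs ts hJ).2 ⟨hrs, hss⟩, ?_⟩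
  have h3 := comap_ofList_map_of_surjective (j.stalkMap (i z)).hom (j.stalkMap_surjective (i z)) rs ts hJ
  rw [← hI] at h3
  exact (kr_comp j i z).trans h3

/-- Permanence: the second and the first immersion. -/
theorem regularAt_of_comp [IsLocallyNoetherian X] (i : Z ⟶ Y) (j : Y ⟶ X) [IsImmersion i] [IsImmersion j]
    (z : Z) (hij : RegImm.IsRegularImmersionAt .regular (i ≫ j) z)
    (h : ∀ w : X.presheaf.stalk (j (i z)), w ∈ kr j (i z) →
      w ∈ IsLocalRing.maximalIdeal (X.presheaf.stalk (j (i z))) * krc j i z →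
      w ∈ IsLocalRing.maximalIdeal (X.presheaf.stalk (j (i z))) * kr j (i z)) :
    RegImm.IsRegularImmersionAt .regular i z ∧ RegImm.IsRegularImmersionAt .regular j (i z) := by
  have := isLocallyNoetherian_of_immersion j
  rw [regularAt_iff_stalk] at hij
  rw [regularAt_iff_stalk, regularAt_iff_stalk]
  obtain ⟨gs, hgs, hK⟩ : ∃ gs : List (X.presheaf.stalk (j (i z))),
      IsWeaklyRegular (X.presheaf.stalk (j (i z))) gs ∧ krc j i z = Ideal.ofList gs := by
    obtain ⟨gs, hgs, hK⟩ := hij
    exact ⟨gs, hgs, (kr_comp j i z).symm.trans hK⟩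
  obtain ⟨fs, hs, -, -, hfsI, hfsJ, hlen⟩ := exists_adapted (RingHom.id (X.presheaf.stalk (j (i z))))
    (I0 := kr j (i z)) hK (IsNoetherian.noetherian _) (kr_le_krc j i z) (by
      rw [Ideal.map_id, Ideal.map_id]; exact h)
  rw [Ideal.map_id, show ((RingHom.id (X.presheaf.stalk (j (i z)))) : _ → _) = id from rfl, List.map_id] at hfsI hfsJ
  have hprop : Ideal.ofList gs ≤ IsLocalRing.maximalIdeal (X.presheaf.stalk (j (i z))) := by
    rw [← hK]
    exact krc_le_maximalIdeal z
  have hq : RegImm.Kind.quasi.Seq (X.presheaf.stalk (j (i z))) gs := by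
    refine K473.RegImmCalc.quasi_of_seq .regular ((isRegular_iff_ne_top gs).2 ⟨hgs, ?_⟩)
    intro htop
    rw [htop, top_le_iff] at hprop
    exact Ideal.IsPrime.ne_top inferInstance hprop
  have hq' : RegImm.Kind.quasi.Seq (X.presheaf.stalk (j (i z))) (fs ++ hs) :=
    of_span_eq K559.KindsDesc.good_q hq (by rw [← hfsJ, hK]) hlen
  have hw : IsWeaklyRegular (X.presheaf.stalk (j (i z))) (fs ++ hs) := by
    refine K470.RelRegFib.isWeaklyRegular_of_seq .quasi (fun r hr => hprop ?_) hq'
    rw [← hK, hfsJ]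
    exact Ideal.subset_span hr
  obtain ⟨h1, h2⟩ := (isWeaklyRegular_append_of_surjective (j.stalkMap (i z)).hom
    (j.stalkMap_surjective (i z)) fs hs hfsI).1 hw
  refine ⟨⟨hs.map (j.stalkMap (i z)).hom, h2, ?_⟩, ⟨fs, h1, hfsI⟩⟩
  have h3 := comap_ofList_map_of_surjective (j.stalkMap (i z)).hom (j.stalkMap_surjective (i z)) fs hs hfsI
  rw [← hfsJ] at h3
  exact (Ideal.comap_injective_of_surjective _ (j.stalkMap_surjective (i z)) h3).symm

end Groth.Agent.SDiv.K474.ConNoeth
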