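import Groth.Agent.Sga67.LocBasisOps
import Groth.Agent.Dcoh.Restrict
import Groth.Agent.Fixpt.H906.SecTot
import Groth.Agent.RegImm.K559.ConSplit

/-!
# Local splitting of exact sequences of modules with finite locally free quotient
-/

set_option autoImplicit false
universe u

open CategoryTheory CategoryTheory.Limits AlgebraicGeometry Opposite TopologicalSpace
open Groth.Agent.Sga67 Groth.Agent.Sga67.Sec Groth.Agent.Sga67.LocBasis
open Groth.Agent.Sga67.KosStalk Groth.Agent.Sga67.KosImm Groth.Agent.Sga67.KosConormal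
open K559.ConSeq
open Groth.Agent.Ega3B.FlatRestrict (stalkEquiv stalkEquiv_germ stalkEquiv_smul)

namespace Groth.Agent.SDiv.K474.LocSplit

variable {Z : Scheme.{u}}

/-- An epimorphism onto a module with a local basis near `z` has a section near `z`. -/
theorem exists_section {M N : Z.Modules} (f : M ⟶ N) [Epi f] {U₀ : Z.Opens} {n : ℕ}
    {b : Fin n → Sec N U₀} (hb : IsLocBasis b) (z : Z) (hz : z ∈ U₀) :
    ∃ (U : Z.Opens), U ≤ U₀ ∧ z ∈ U ∧
      ∃ s : (Scheme.Modules.restrictFunctor U.ι).obj N ⟶ (Scheme.Modules.restrictFunctor U.ι).obj M,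
        s ≫ (Scheme.Modules.restrictFunctor U.ι).map f = 𝟙 _ := by
  obtain ⟨U, hU, hzU, c, hc⟩ := exists_lifts f b hz
  refine ⟨U, hU, hzU, ?_⟩
  have hb' := (isLocBasis_restrict_iff _).1 (hb.restrict hU)
  let t : Fin n → Sec (M.restrict U.ι) ⊤ := fun k => res M (show U.ι ''ᵁ ⊤ ≤ U by simp) (c k)
  obtain ⟨s, hs⟩ := Groth.Agent.Fixpt.H906.SecTot.exists_hom_basis hb' t
  refine ⟨s, ?_⟩
  refine Groth.Agent.Fixpt.H906.SecTot.hom_ext_basis hb' fun k => ?_
  have h1 : appS f (U.ι ''ᵁ ⊤) (res M (show U.ι ''ᵁ ⊤ ≤ U by simp) (c k)) =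
      res N (show U.ι ''ᵁ ⊤ ≤ U by simp) (res N hU (b k)) := by
    rw [appS_res, hc]
  exact (congrArg (appS ((Scheme.Modules.restrictFunctor U.ι).map f) ⊤) (hs k)).trans h1

/-- The stalk of a restricted morphism. -/
theorem stalkEquiv_stM {M N : Z.Modules} (φ : M ⟶ N) (U : Z.Opens) (x : (U : Scheme.{u}))
    (m : StM (M.restrict U.ι) x) :
    stalkEquiv U.ι N x (stM ((Scheme.Modules.restrictFunctor U.ι).map φ) x m) =
      stM φ (U.ι x) (stalkEquiv U.ι M x m) := by
  obtain ⟨V, -, hV, m, rfl⟩ := exists_gm _ (U := ⊤) (Opens.mem_top x) m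
  have h1 : stalkEquiv U.ι M x (gm _ hV m) = gm M (show U.ι x ∈ U.ι ''ᵁ V from ⟨x, hV, rfl⟩) m :=
    stalkEquiv_germ U.ι M x V hV m
  have h2 : stM ((Scheme.Modules.restrictFunctor U.ι).map φ) x (gm _ hV m) =
      gm (N.restrict U.ι) hV (ap ((Scheme.Modules.restrictFunctor U.ι).map φ) V m) := stM_gm _ hV m
  have h3 : stalkEquiv U.ι N x (gm (N.restrict U.ι) hV
      (ap ((Scheme.Modules.restrictFunctor U.ι).map φ) V m)) =
      gm N (show U.ι x ∈ U.ι ''ᵁ V from ⟨x, hV, rfl⟩)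
        (ap ((Scheme.Modules.restrictFunctor U.ι).map φ) V m) :=
    stalkEquiv_germ U.ι N x V hV _
  refine (congrArg (stalkEquiv U.ι N x) h2).trans (h3.trans ?_)
  rw [h1]
  exact (stM_gm φ (show U.ι x ∈ U.ι ''ᵁ V from ⟨x, hV, rfl⟩) m).symm

/-- A restriction is a monomorphism if the stalk maps at the points of the open are injective. -/
theorem mono_restrict {M N : Z.Modules} (φ : M ⟶ N) (U : Z.Opens)
    (h : ∀ z ∈ U, Function.Injective (stM φ z)) :
    Mono ((Scheme.Modules.restrictFunctor U.ι).map φ) := by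
  refine Groth.Agent.Dcoh.StalkMod.mono_of_injective _ fun x s t hst => ?_
  have h1 : stM ((Scheme.Modules.restrictFunctor U.ι).map φ) x s =
      stM ((Scheme.Modules.restrictFunctor U.ι).map φ) x t :=
    (stalkLin_eq_stM _ x s).symm.trans (hst.trans (stalkLin_eq_stM _ x t))
  have h2 := (stalkEquiv_stM φ U x s).symm.trans ((congrArg (stalkEquiv U.ι N x) h1).trans
    (stalkEquiv_stM φ U x t))
  exact (stalkEquiv U.ι M x).injective (h (U.ι x) x.2 h2)

/-- Local splittings. -/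
theorem exists_splitting {T : ShortComplex Z.Modules} (hT : T.Exact) [Epi T.g] {U₀ : Z.Opens} {n : ℕ}
    {b : Fin n → Sec T.X₃ U₀} (hb : IsLocBasis b) (z : Z) (hz : z ∈ U₀)
    (hinj : ∀ z ∈ U₀, Function.Injective (stM T.f z)) :
    ∃ U : Z.Opens, z ∈ U ∧ Nonempty (T.map (Scheme.Modules.restrictFunctor U.ι)).Splitting := by
  obtain ⟨U, hU, hzU, s, hs⟩ := exists_section T.g hb z hz
  refine ⟨U, hzU, ⟨?_⟩⟩
  have h1 : (T.map (Scheme.Modules.restrictFunctor U.ι)).Exact := hT.map _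
  have h2 : Mono ((Scheme.Modules.restrictFunctor U.ι).map T.f) :=
    mono_restrict T.f U fun z hz => hinj z (hU hz)
  exact ShortComplex.Splitting.ofExactOfSection _ h1 s hs h2

end Groth.Agent.SDiv.K474.LocSplit
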