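import Groth.Prelude.Def_BlowUp2
import Groth.Agent.CohqA.AffineBaseChange
import Groth.Agent.Flat2C.StrictQC
import Groth.Agent.Flat2C.StrictTr
import Groth.Agent.CohqB.AlgMod

/-!
# Strict transforms and affine direct images
-/

set_option autoImplicit false
universe u

open CategoryTheory CategoryTheory.Limits AlgebraicGeometry TopologicalSpace Opposite

namespace Groth.Agent.SDiv.K474.StrictPush

open Groth.Agent.Divis.IdealComap

variable {X Y X' Y' : Scheme.{u}}

/-- The condition of being killed by a power of an ideal, for a direct image under an affine morphism. -/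
theorem killed_pushforward_iff {g' : X' ⟶ Y'} [IsAffineHom g'] (E : Y'.IdealSheafData) (H : X'.Modules)
    (V : Y'.affineOpens) (m : Γ((Scheme.Modules.pushforward g').obj H, V.1)) :
    BlowUp.KilledByPowerNear E ((Scheme.Modules.pushforward g').obj H) V m ↔
      BlowUp.KilledByPowerNear (E.comap g') H ⟨g' ⁻¹ᵁ V.1, V.2.preimage g'⟩ m := by
  have key : ∀ n : ℕ, ((E.comap g') ^ n).ideal ⟨g' ⁻¹ᵁ V.1, V.2.preimage g'⟩ =
      ((E ^ n).ideal V).map (g'.app V.1).hom := by
    intro n
    rw [Scheme.IdealSheafData.ideal_pow, Scheme.IdealSheafData.ideal_pow, Pi.pow_apply, Pi.pow_apply,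
      ideal_comap E g' V ⟨g' ⁻¹ᵁ V.1, V.2.preimage g'⟩ le_rfl, ← Ideal.map_pow]
    congr 2
    exact (Scheme.Hom.app_eq_appLE g').symm
  constructor
  · rintro ⟨n, hn⟩
    refine ⟨n, fun a ha => ?_⟩
    rw [key n] at ha
    have h1 : ((E ^ n).ideal V).map (g'.app V.1).hom ≤
        LinearMap.ker (LinearMap.toSpanSingleton Γ(X', g' ⁻¹ᵁ V.1) Γ(H, g' ⁻¹ᵁ V.1) m) := by
      rw [Ideal.map_le_iff_le_comap]
      intro r hr
      exact hn r hr
    exact h1 ha
  · rintro ⟨n, hn⟩
    refine ⟨n, fun a ha => ?_⟩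
    have h1 : (g'.app V.1).hom a ∈ ((E.comap g') ^ n).ideal ⟨g' ⁻¹ᵁ V.1, V.2.preimage g'⟩ := by
      rw [key n]
      exact Ideal.mem_map_of_mem _ ha
    exact hn _ h1

/-- Being killed by a power of an ideal is invariant under isomorphisms. -/
theorem killed_iso_iff {H H' : X.Modules} (e : H ≅ H') (E : X.IdealSheafData) (V : X.affineOpens) (m : Γ(H, V.1)) :
    BlowUp.KilledByPowerNear E H' V (e.hom.app V.1 m) ↔ BlowUp.KilledByPowerNear E H V m := by
  have key : ∀ (A B : X.Modules) (φ : A ⟶ B) (m : Γ(A, V.1)), BlowUp.KilledByPowerNear E A V m →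
      BlowUp.KilledByPowerNear E B V (φ.app V.1 m) := by
    rintro A B φ m ⟨n, hn⟩
    refine ⟨n, fun a ha => ?_⟩
    have h1 := congrArg (φ.app V.1) (hn a ha)
    rw [map_zero] at h1
    rw [← h1]
    exact (Scheme.Modules.Hom.app_smul φ a m).symm
  refine ⟨fun h => ?_, fun h => key _ _ e.hom m h⟩
  have h1 := key _ _ e.inv _ h
  have h2 : e.inv.app V.1 (e.hom.app V.1 m) = m := by
    have := congrArg (fun φ => Scheme.Modules.Hom.app φ V.1) e.hom_inv_id
    exact congr($(this) m)
  rwa [h2] at h1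

/-- The direct image of a strict transform under an affine morphism is a strict transform. -/
theorem exists_isStrictTransform {g : X ⟶ Y} {q : Y' ⟶ Y} {p : X' ⟶ X} {g' : X' ⟶ Y'}
    (h : IsPullback p g' g q) [IsAffineHom g] {J : Y.IdealSheafData}
    (hE : BlowUp.IsFiniteTypeIdeal ((J.comap g).comap p)) {F : X.Modules} (hF : Coh.IsQCoh F) {F' : X'.Modules}
    (π : (Scheme.Modules.pullback p).obj F ⟶ F') (hπ : BlowUp.IsStrictTransform p (J.comap g) F F' π) :
    ∃ π' : (Scheme.Modules.pullback q).obj ((Scheme.Modules.pushforward g).obj F) ⟶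
        (Scheme.Modules.pushforward g').obj F',
      BlowUp.IsStrictTransform q J ((Scheme.Modules.pushforward g).obj F)
        ((Scheme.Modules.pushforward g').obj F') π' := by
  have hg' : IsAffineHom g' := MorphismProperty.of_isPullback h ‹_›
  obtain ⟨e⟩ := Groth.Agent.CohqA.AffineBaseChange.nonempty_iso h F
  have hepi := hπ.1
  have hQ : Coh.IsQCoh ((Scheme.Modules.pullback p).obj F) :=
    Groth.Agent.CohqA.PullbackQCoh.isQuasicoherent_pullback p F
  have hsurj : ∀ U : X'.Opens, IsAffineOpen U → Function.Surjective (π.app U) := fun U hU =>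
    Groth.Agent.Flat2C.StrictQC.app_surjective hE hQ π hπ.2 hU
  refine ⟨e.hom ≫ (Scheme.Modules.pushforward g').map π, ?_, fun V m => ?_⟩
  · have : Epi ((Scheme.Modules.pushforward g').map π) :=
      Groth.Agent.CohqB.AlgMod.epi_of_surjective_affine _ fun U hU => hsurj (g' ⁻¹ᵁ U) (hU.preimage g')
    exact epi_comp _ _
  · have h1 : (e.hom ≫ (Scheme.Modules.pushforward g').map π).app V.1 m =
        π.app (g' ⁻¹ᵁ V.1) (e.hom.app V.1 m) := rfl
    rw [h1, ← killed_iso_iff e (BlowUp.exceptional q J) V m, killed_pushforward_iff]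
    have h2 := hπ.2 ⟨g' ⁻¹ᵁ V.1, V.2.preimage g'⟩ (e.hom.app V.1 m)
    have h3 : BlowUp.exceptional p (J.comap g) = (BlowUp.exceptional q J).comap g' := by
      unfold BlowUp.exceptional
      rw [← Scheme.IdealSheafData.comap_comp, ← Scheme.IdealSheafData.comap_comp, h.w]
    rw [h3] at h2
    exact h2

end Groth.Agent.SDiv.K474.StrictPush
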