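import Groth.Agent.RegImm.K559.ConSeq
import Groth.Agent.RegImm.K559.KindsDesc
import Groth.Agent.Dual.H376.ChartConormal

/-!
# The conormal module of a quasi-compact immersion: local bases

If the ideal of a quasi-compact immersion is generated, over an affine open over which it is a closed
immersion, by a sequence whose relations have coefficients in the ideal, then the classes of the
sequence are a local basis of the conormal module.
-/

set_option autoImplicit false
universe u

open CategoryTheory CategoryTheory.Limits AlgebraicGeometry Opposite TopologicalSpace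
open Groth.Agent.Sga67 Groth.Agent.Sga67.Sec Groth.Agent.Sga67.LocBasis
  Groth.Agent.Sga67.KosStalk Groth.Agent.Sga67.KosImm Groth.Agent.Sga67.KosConormal
open K559.ConSt K559.StIdeal K559.Basic

namespace Groth.Agent.SDiv.K474.ConLoc

variable {X Y : Scheme.{u}}

/-- Charts. -/
structure Ch (i : Y ⟶ X) (r : ℕ) where
  /-- the open -/
  U : X.Opens
  hU : IsAffineOpen U
  hcl : IsClosedImmersion (i ∣_ U)
  /-- the generators of the ideal -/
  f : Fin r → Γ(X, U)
  hker : RingHom.ker (i.app U).hom = Ideal.span (Set.range f)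
  hco : ∀ a : Fin r → Γ(X, U), ∑ j, a j * f j = 0 → ∀ j, a j ∈ Ideal.span (Set.range f)

variable {i : Y ⟶ X} {r : ℕ} (c : Ch i r)

/-- Relations between the germs have coefficients in the ideal. -/
theorem coeff_mem {x : X} (hx : x ∈ c.U) (a : Fin r → X.presheaf.stalk x)
    (ha : ∑ j, a j * gO X hx (c.f j) = 0) (j : Fin r) :
    a j ∈ Ideal.span (Set.range (fun j => gO X hx (c.f j))) := by
  let : Algebra Γ(X, c.U) (X.presheaf.stalk x) := (X.presheaf.germ c.U x hx).hom.toAlgebra
  have h1 : IsLocalization.AtPrime (X.presheaf.stalk x)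
      (c.hU.primeIdealOf ⟨x, hx⟩).asIdeal := c.hU.isLocalization_stalk ⟨x, hx⟩
  exact Groth.Agent.Dual.H376.ChartConormal.coef_of_localization
    (c.hU.primeIdealOf ⟨x, hx⟩).asIdeal.primeCompl c.f c.hco a ha j

theorem app_f (j : Fin r) : i.app c.U (c.f j) = 0 := by
  have h : c.f j ∈ RingHom.ker (i.app c.U).hom := by
    rw [c.hker]
    exact Ideal.subset_span ⟨j, rfl⟩
  exact h

theorem kr_eq [IsPreimmersion i] {y : Y} (hy : i y ∈ c.U) :
    kr i y = Ideal.span (Set.range (fun j => gO X hy (c.f j))) := by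
  rw [ker_stalkMap c.hU c.hcl y hy, c.hker, Ideal.map_span, ← Set.range_comp]
  rfl

variable [QuasiCompact i]

/-- The sections of the ideal module given by the generators. -/
noncomputable def fI (j : Fin r) : SM (ClSub.idealMod i.ker) c.U :=
  ((app_eq_zero_iff i c.U (c.f j)).1 (app_f c j)).choose

theorem vl_fI (j : Fin r) : vl i.ker (fI c j) = c.f j :=
  ((app_eq_zero_iff i c.U (c.f j)).1 (app_f c j)).choose_spec

theorem exists_eq_sum_fI [IsPreimmersion i] {y : Y} (hy : i y ∈ c.U)
    (t : StM (ClSub.idealMod i.ker) (i y)) :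
    ∃ a : Fin r → X.presheaf.stalk (i y), t = ∑ j, a j • gm _ hy (fI c j) := by
  have h : vx i.ker (i y) t ∈ kr i y := stalkMap_vx i y t
  rw [kr_eq c hy] at h
  obtain ⟨a, ha⟩ := (Submodule.mem_span_range_iff_exists_fun _).mp h
  refine ⟨a, ?_⟩
  apply vx_injective
  rw [← ha, map_sum]
  refine Finset.sum_congr rfl fun j _ => ?_
  rw [map_smul, vx_gm, vl_fI]

/-- The classes of the generators in the conormal module. -/
noncomputable def fN (j : Fin r) : SM (Omega.conormal i) (i ⁻¹ᵁ c.U) :=
  et i (ClSub.idealMod i.ker) c.U (fI c j)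

variable [IsPreimmersion i]

theorem cn_eq_zero {y : Y} (hy : i y ∈ c.U) (P : X.Modules) (e : StM P (i y))
    (he : cn i P y e = 0) : ∃ b : Fin r → StM P (i y), e = ∑ j, gO X hy (c.f j) • b j := by
  have h := K559.ConSt.cn_ker i P y e he
  rw [kr_eq c hy] at h
  exact exists_sum_of_mem_span _ _ h

theorem eq_zero_of_sum {y : Y} (hy : i y ∈ c.U) (b : Fin r → Y.presheaf.stalk y)
    (hb : ∑ j, b j • gm (Omega.conormal i) (show y ∈ i ⁻¹ᵁ c.U from hy) (fN c j) = 0) : b = 0 := by
  choose a ha using fun j => i.stalkMap_surjective y (b j)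
  have h1 : cn i (ClSub.idealMod i.ker) y (∑ j, a j • gm _ hy (fI c j)) = 0 := by
    rw [map_sum]
    refine Eq.trans (Finset.sum_congr rfl fun j _ => ?_) hb
    rw [cn_smul, ha, cn_gm]
    rfl
  obtain ⟨e, he⟩ := cn_eq_zero c hy _ _ h1
  choose h hh using fun l => exists_eq_sum_fI c hy (e l)
  have h2 : ∑ j, (a j - ∑ l, gO X hy (c.f l) * h l j) * gO X hy (c.f j) = 0 := by
    have h3 := congrArg (vx i.ker (i y)) he
    rw [map_sum, map_sum] at h3
    have h4 : ∀ j, vx i.ker (i y) (a j • gm _ hy (fI c j)) = a j * gO X hy (c.f j) := by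
      intro j
      rw [map_smul, vx_gm, vl_fI, smul_eq_mul]
    have h5 : ∀ l, vx i.ker (i y) (gO X hy (c.f l) • e l) =
        ∑ j, gO X hy (c.f l) * h l j * gO X hy (c.f j) := by
      intro l
      rw [map_smul, hh, map_sum, Finset.smul_sum]
      refine Finset.sum_congr rfl fun j _ => ?_
      rw [map_smul, vx_gm, vl_fI, smul_eq_mul, smul_eq_mul, mul_assoc]
    simp only [h4, h5] at h3
    simp only [sub_mul, Finset.sum_sub_distrib, Finset.sum_mul]
    rw [h3, Finset.sum_comm, sub_self]
  funext j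
  have h6 := coeff_mem c hy _ h2 j
  have h7 : a j ∈ Ideal.span (Set.range (fun j => gO X hy (c.f j))) := by
    rw [← sub_add_cancel (a j) (∑ l, gO X hy (c.f l) * h l j)]
    exact Ideal.add_mem _ h6 (Ideal.sum_mem _ fun l _ =>
      Ideal.mul_mem_right _ _ (Ideal.subset_span ⟨l, rfl⟩))
  rw [← kr_eq c hy] at h7
  rw [← ha j]
  exact h7

theorem exists_eq_sum_fN {y : Y} (hy : i y ∈ c.U) (t : StM (Omega.conormal i) y) :
    ∃ b : Fin r → Y.presheaf.stalk y,
      t = ∑ j, b j • gm (Omega.conormal i) (show y ∈ i ⁻¹ᵁ c.U from hy) (fN c j) := by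
  obtain ⟨e, rfl⟩ := K559.ConSt.cn_surjective i (ClSub.idealMod i.ker) y t
  obtain ⟨a, rfl⟩ := exists_eq_sum_fI c hy e
  refine ⟨fun j => i.stalkMap y (a j), ?_⟩
  rw [map_sum]
  refine Finset.sum_congr rfl fun j _ => ?_
  rw [cn_smul, cn_gm]
  rfl

/-- The classes of the generators are a local basis of the conormal module. -/
theorem isLocBasis_fN : IsLocBasis (M := Omega.conormal i) (U := i ⁻¹ᵁ c.U) (fun j => fN c j) := by
  have hgm : ∀ (V : Y.Opens) (h : V ≤ i ⁻¹ᵁ c.U) (a : Fin r → Γ(Y, V)) (x : Y) (hx : x ∈ V),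
      gm (Omega.conormal i) hx (comb (M := Omega.conormal i) (U := i ⁻¹ᵁ c.U) (fun j => fN c j) h a) =
        ∑ j, gO Y hx (a j) • gm (Omega.conormal i) (h hx) (fN c j) := by
    intro V h a x hx
    have h1 : (comb (M := Omega.conormal i) (U := i ⁻¹ᵁ c.U) (fun j => fN c j) h a : SM (Omega.conormal i) V) =
        ∑ j, a j • rs (Omega.conormal i) h (fN c j) := rfl
    refine (congrArg (gm (Omega.conormal i) hx) h1).trans ?_
    rw [map_sum]
    refine Finset.sum_congr rfl fun j _ => ?_
    rw [gm_smul, gm_rs]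
  refine isLocBasis_of_locally' _ ?_ ?_
  · intro V h
    rw [← LinearMap.ker_eq_bot, LinearMap.ker_eq_bot']
    intro a ha
    funext j
    refine TopCat.Presheaf.section_ext Y.sheaf V _ _ fun x hx => ?_
    have h1 := hgm V h a x hx
    rw [ha] at h1
    have h2 := eq_zero_of_sum c (y := x) (h hx) (fun j => gO Y hx (a j)) (h1.symm.trans (map_zero _))
    have h3 := congrFun h2 j
    change gO Y hx (a j) = gO Y hx 0
    rw [map_zero]
    exact h3
  · intro V h s x hx
    obtain ⟨b, hb⟩ := exists_eq_sum_fN c (y := x) (h hx) (gm (Omega.conormal i) hx (toSM s))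
    choose W0 hW0 hyW0 b0 hb0 using fun j => (TopCat.Presheaf.exists_le_germ_eq Y.presheaf (b j) hx)
    obtain ⟨W, hyW, hWV, hWW0⟩ := exists_common_nbhd V hx W0 hyW0
    have h1 : gm (Omega.conormal i) hyW (comb (M := Omega.conormal i) (U := i ⁻¹ᵁ c.U) (fun j => fN c j) (hWV.trans h)
        (fun j => resO Y (hWW0 j) (b0 j))) = gm (Omega.conormal i) hyW (toSM (res _ hWV s)) := by
      rw [hgm, ← rs_toSM, gm_rs, hb]
      refine Finset.sum_congr rfl fun j _ => ?_
      rw [gO_resO]
      congr 1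
      exact hb0 j
    obtain ⟨W', hW', hyW', e⟩ := gm_eq (Omega.conormal i) hyW _ _ h1
    refine ⟨W', hW'.trans hWV, (hW'.trans hWV).trans h, hyW',
      fun j => resO Y hW' (resO Y (hWW0 j) (b0 j)), ?_⟩
    refine (res_comb (fun j => fN c j) (hWV.trans h) hW' (fun j => resO Y (hWW0 j) (b0 j))).symm.trans ?_
    refine Eq.trans e ?_
    exact res_res _ _ _ _

end Groth.Agent.SDiv.K474.ConLoc
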