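import Groth.Agent.RegImm.K559.Exchange
import Groth.Agent.RegImm.K559.KindsDesc
import Groth.Agent.EGA41.K104.QuasiReg

/-!
# Adapted generators of a pair of ideals, and truncation of sequences of a given kind
-/

set_option autoImplicit false
universe u

open IsLocalRing K559.Gen K559.GenDesc

namespace Groth.Agent.SDiv.K474.MinGen

section Adapted

variable {A : Type u} [CommRing A] {R : Type u} [CommRing R] [IsLocalRing R] (φ : A →+* R)

/-- Minimal generating lists. -/
theorem exists_minimal {I0 : Ideal A} (hfg : I0.FG) :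
    ∃ fs : List A, (∀ f ∈ fs, f ∈ I0) ∧ I0.map φ = Ideal.ofList (fs.map φ) ∧
      ∀ (F : List A) (f : A) (T : List A), fs = F ++ f :: T →
        φ f ∉ Ideal.ofList (F.map φ) ⊔ maximalIdeal R * I0.map φ := by
  classical
  let P : ℕ → Prop := fun n => ∃ fs : List A, fs.length = n ∧ (∀ f ∈ fs, f ∈ I0) ∧
    I0.map φ = Ideal.ofList (fs.map φ)
  have hP : ∃ n, P n := by
    obtain ⟨s, hs⟩ := hfg
    refine ⟨_, s.toList, rfl, fun f hf => ?_, ?_⟩
    · rw [← hs]
      exact Ideal.subset_span (Finset.mem_coe.2 (Finset.mem_toList.1 hf))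
    · rw [← Ideal.map_ofList, ← hs]
      congr 1
      rw [Ideal.ofList]
      congr 1
      ext x
      simp
  obtain ⟨fs, hn, hfs, hI⟩ := Nat.find_spec hP
  refine ⟨fs, hfs, hI, ?_⟩
  rintro F f T rfl hf
  refine Nat.find_min hP (m := (F ++ T).length) ?_ ⟨F ++ T, rfl, ?_, ?_⟩
  · rw [← hn]; simp
  · intro g hg
    refine hfs g ?_
    rcases List.mem_append.1 hg with h | h
    · exact List.mem_append_left _ h
    · exact List.mem_append_right _ (List.mem_cons_of_mem _ h)
  · have hle : Ideal.ofList ((F ++ T).map φ) ≤ I0.map φ := by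
      rw [hI, List.map_append, List.map_append, List.map_cons, Ideal.ofList_append,
        Ideal.ofList_append, Ideal.ofList_cons]
      exact sup_le_sup_left le_sup_right _
    refine le_antisymm ?_ hle
    have hfg' : (I0.map φ).FG := hfg.map φ
    refine Submodule.le_of_le_smul_of_le_jacobson_bot hfg' (IsLocalRing.maximalIdeal_le_jacobson ⊥) ?_
    conv_lhs => rw [hI]
    rw [List.map_append, List.map_append, List.map_cons, Ideal.ofList_append, Ideal.ofList_append,
      Ideal.ofList_cons, smul_eq_mul]
    refine sup_le (le_sup_left.trans le_sup_left) (sup_le ?_ (le_sup_right.trans le_sup_left))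
    rw [Ideal.span_singleton_le_iff_mem]
    exact (sup_le_sup_right le_sup_left _ : Ideal.ofList (F.map φ) ⊔ maximalIdeal R * I0.map φ ≤ _) hf

/-- Generators of `J` extending generators of `I`. -/
theorem exists_adapted {I0 J0 : Ideal A} {gs : List A} (hJ0 : J0 = Ideal.ofList gs) (hI0 : I0.FG)
    (hIJ : I0 ≤ J0)
    (h : ∀ w ∈ I0.map φ, w ∈ maximalIdeal R * J0.map φ → w ∈ maximalIdeal R * I0.map φ) :
    ∃ fs hs : List A, (∀ f ∈ fs, f ∈ I0) ∧ (∀ h ∈ hs, h ∈ J0) ∧
      I0.map φ = Ideal.ofList (fs.map φ) ∧ J0.map φ = Ideal.ofList ((fs ++ hs).map φ) ∧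
      (fs ++ hs).length = gs.length := by
  obtain ⟨fs, hfs, hI, hmin⟩ := exists_minimal φ hI0
  obtain ⟨hs, hlen, hJ', hsub⟩ := K559.Exchange.exchange φ (J := J0.map φ) (fs := fs) (gs := gs)
    (by rw [hJ0, Ideal.map_ofList])
    (fun f hf => Ideal.mem_map_of_mem φ (hIJ (hfs f hf))) (by
      rintro F f T hFT hmem
      refine hmin F f T hFT ?_
      obtain ⟨u, hu, v, hv, huv⟩ := Submodule.mem_sup.1 hmem
      have hfI : φ f ∈ I0.map φ := Ideal.mem_map_of_mem φ (hfs f (by rw [hFT]; simp))
      have huI : u ∈ I0.map φ := by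
        rw [hI, hFT, List.map_append, Ideal.ofList_append]
        exact Submodule.mem_sup_left hu
      have hvI : v ∈ I0.map φ := by
        have : v = φ f - u := by rw [← huv]; ring
        rw [this]
        exact sub_mem hfI huI
      rw [← huv]
      exact Submodule.add_mem_sup hu (h v hvI hv))
  refine ⟨fs, hs, hfs, fun g hg => ?_, hI, hJ', ?_⟩
  · rw [hJ0]
    exact Ideal.subset_span (hsub g hg)
  · rw [List.length_append, ← hlen, add_comm]

/-- Two finitely generated ideals which agree in the local ring agree after multiplication. -/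
theorem exists_mul_mem (p : Ideal A) [p.IsPrime] [Algebra A R] [IsLocalization.AtPrime R p]
    {I0 N : Ideal A} (hfg : I0.FG) (h : I0.map (algebraMap A R) ≤ N.map (algebraMap A R)) :
    ∃ a ∉ p, ∀ g ∈ I0, a * g ∈ N := by
  obtain ⟨s, rfl⟩ := hfg
  obtain ⟨a, ha, hag⟩ := K559.Exchange.exists_mul_mem (algebraMap A R) p N s.toList (by
      intro g hg
      obtain ⟨a, ha, hag⟩ := (IsLocalization.algebraMap_mem_map_algebraMap_iff p.primeCompl R N g).1 hg
      exact ⟨a, ha, hag⟩) (fun g hg => h (Ideal.mem_map_of_mem _
        (Ideal.subset_span (Finset.mem_coe.2 (Finset.mem_toList.1 hg)))))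
  refine ⟨a, ha, fun g hg => ?_⟩
  induction hg using Submodule.span_induction with
  | mem x hx => exact hag x (Finset.mem_toList.2 (Finset.mem_coe.1 hx))
  | zero => rw [mul_zero]; exact N.zero_mem
  | add x y _ _ hx hy => rw [mul_add]; exact add_mem hx hy
  | smul r x _ hx => rw [smul_eq_mul, mul_left_comm]; exact N.mul_mem_left _ hx

end Adapted

section Kinds

variable {S : ∀ (R : Type u) [CommRing R], List R → Prop}

/-- A good kind only depends on the ideal and the length. -/
theorem of_span_eq (hS : Good S) {A : Type u} [CommRing A] {l l' : List A} (hl : S A l)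
    (h : Ideal.ofList l' = Ideal.ofList l) (hlen : l'.length = l.length) : S A l' := by
  refine hS.loc A l' fun p hp hle => ?_
  have h1 : S (Localization.AtPrime p) (l.map (algebraMap A (Localization.AtPrime p))) := by
    refine hS.flat _ _ _ ?_ l hl
    rw [RingHom.flat_algebraMap_iff]
    infer_instance
  refine hS.exch _ _ _ h1 ?_ ?_ (by simp [hlen])
  · rw [← Ideal.map_ofList, ← Ideal.map_ofList, h]
  · rw [← Ideal.map_ofList, Ideal.map_le_iff_le_comap]
    intro x hx
    rw [Ideal.mem_comap, IsLocalization.AtPrime.to_map_mem_maximal_iff (Localization.AtPrime p) p]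
    rw [h] at hle
    exact hle hx

/-- Truncation property. -/
def Trunc (S : ∀ (R : Type u) [CommRing R], List R → Prop) : Prop :=
  ∀ (A : Type u) [CommRing A] (a : A) (m : List A), S A (a :: m) →
    S (A ⧸ Ideal.span {a}) (m.map (Ideal.Quotient.mk (Ideal.span {a})))

theorem trunc_append (hT : Trunc S) (hS : FlatStable S) : ∀ (n : ℕ) {A : Type u} [CommRing A]
    (l : List A) (_ : l.length = n) (m : List A) (_ : S A (l ++ m)) {B : Type u} [CommRing B]
    (π : A →+* B) (_ : Function.Surjective π) (_ : RingHom.ker π = Ideal.ofList l),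
    S B (m.map π) := by
  intro n
  induction n with
  | zero =>
    intro A _ l hl m hlm B _ π hπ hker
    obtain rfl := List.length_eq_zero_iff.1 hl
    rw [Ideal.ofList_nil] at hker
    exact hS _ _ π (RingHom.Flat.of_bijective ⟨(RingHom.injective_iff_ker_eq_bot π).2 hker, hπ⟩) _ hlm
  | succ n ih =>
    intro A _ l hl m hlm B _ π hπ hker
    obtain ⟨a, l, rfl⟩ := List.exists_cons_of_length_eq_add_one hl
    have ha : ∀ x ∈ Ideal.span {a}, π x = 0 := by
      intro x hx
      rw [← RingHom.mem_ker, hker, Ideal.ofList_cons]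
      exact Submodule.mem_sup_left hx
    let π' : A ⧸ Ideal.span {a} →+* B := Ideal.Quotient.lift (Ideal.span {a}) π ha
    have hc : π'.comp (Ideal.Quotient.mk (Ideal.span {a})) = π := Ideal.Quotient.lift_comp_mk _ _ ha
    have h1 := hT A a (l ++ m) hlm
    rw [List.map_append] at h1
    have h2 := ih (l.map (Ideal.Quotient.mk (Ideal.span {a}))) (by simpa using hl) _ h1 π'
      (Ideal.Quotient.lift_surjective_of_surjective _ ha hπ) ?_
    · rw [List.map_map] at h2
      have h3 : (π' ∘ Ideal.Quotient.mk (Ideal.span {a}) : A → B) = π := by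
        funext x
        exact DFunLike.congr_fun hc x
      rwa [h3] at h2
    · apply Ideal.comap_injective_of_surjective (Ideal.Quotient.mk (Ideal.span {a})) Ideal.Quotient.mk_surjective
      rw [RingHom.comap_ker, hc, hker, ← Ideal.map_ofList,
        Ideal.comap_map_of_surjective' _ Ideal.Quotient.mk_surjective, Ideal.mk_ker, Ideal.ofList_cons,
        sup_comm]

/-- The kind `H_1`. -/
theorem trunc_h1 : Trunc.{u} (fun _ _ l => CAlgX.IsH1Regular l.get) := by
  intro A _ a m h
  rw [K559.KindsDesc.h1_map]
  intro b hb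
  change b ∈ K559.H1Flat.triv (fun i => Ideal.Quotient.mk (Ideal.span {a}) (m.get i))
  choose c hc using fun i => Ideal.Quotient.mk_surjective (b i)
  have h1 : ∑ i, c i * m.get i ∈ Ideal.span {a} := by
    rw [← Ideal.Quotient.eq_zero_iff_mem, map_sum, ← hb]
    exact Finset.sum_congr rfl fun i _ => by rw [map_mul, hc]
  obtain ⟨r, hr⟩ := Ideal.mem_span_singleton'.1 h1
  have h2 : (Fin.cons (-r) c : Fin (m.length + 1) → A) ∈
      K559.H1Flat.triv (Fin.cons a m.get : Fin (m.length + 1) → A) := by
    have h3 := h (fun i => (Fin.cons (-r) c : Fin (m.length + 1) → A) i) (by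
      change ∑ i : Fin (m.length + 1), (Fin.cons (-r) c : Fin (m.length + 1) → A) i * (a :: m).get i = 0
      rw [Fin.sum_univ_succ]
      simp only [Fin.cons_zero, Fin.cons_succ]
      change -r * a + ∑ i, c i * m.get i = 0
      rw [← hr]; ring)
    have h4 : ((a :: m).get : Fin (m.length + 1) → A) = Fin.cons a m.get := by
      funext i
      refine Fin.cases ?_ (fun i => ?_) i
      · rfl
      · rfl
    rw [← h4]
    exact h3
  have h5 : ∀ t ∈ K559.H1Flat.triv (Fin.cons a m.get : Fin (m.length + 1) → A),
      (fun i : Fin m.length => Ideal.Quotient.mk (Ideal.span {a}) (t i.succ)) ∈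
        K559.H1Flat.triv (fun i => Ideal.Quotient.mk (Ideal.span {a}) (m.get i)) := by
    intro t ht
    have ha0 : Ideal.Quotient.mk (Ideal.span {a}) a = 0 :=
      Ideal.Quotient.eq_zero_iff_mem.2 (Ideal.mem_span_singleton_self a)
    have hss : ∀ (k : Fin m.length) (r : A), (fun i : Fin m.length =>
        Ideal.Quotient.mk (Ideal.span {a}) ((Pi.single k.succ r : Fin (m.length + 1) → A) i.succ)) =
          Pi.single k (Ideal.Quotient.mk (Ideal.span {a}) r) := by
      intro k r
      funext i
      by_cases hki : i = k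
      · subst hki; simp
      · rw [Pi.single_eq_of_ne (fun h => hki (Fin.succ_injective _ h)), Pi.single_eq_of_ne hki, map_zero]
    have hs0 : ∀ (r : A), (fun i : Fin m.length =>
        Ideal.Quotient.mk (Ideal.span {a}) ((Pi.single 0 r : Fin (m.length + 1) → A) i.succ)) = 0 := by
      intro r
      funext i
      rw [Pi.single_eq_of_ne (Fin.succ_ne_zero i), map_zero]
      rfl
    induction ht using Submodule.span_induction with
    | mem v hv =>
      obtain ⟨k, l, rfl⟩ := hv
      have key : ∀ (k l : Fin (m.length + 1)), (fun i : Fin m.length =>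
          Ideal.Quotient.mk (Ideal.span {a}) ((Pi.single k ((Fin.cons a m.get : Fin (m.length + 1) → A) l)
            - Pi.single l ((Fin.cons a m.get : Fin (m.length + 1) → A) k) : Fin (m.length + 1) → A) i.succ)) =
          (fun i : Fin m.length => Ideal.Quotient.mk (Ideal.span {a})
            ((Pi.single k ((Fin.cons a m.get : Fin (m.length + 1) → A) l) : Fin (m.length + 1) → A) i.succ)) -
          (fun i : Fin m.length => Ideal.Quotient.mk (Ideal.span {a})
            ((Pi.single l ((Fin.cons a m.get : Fin (m.length + 1) → A) k) : Fin (m.length + 1) → A) i.succ)) := by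
        intro k l
        funext i
        rw [Pi.sub_apply, map_sub]
        rfl
      rw [key]
      refine Fin.cases ?_ (fun k => ?_) k <;> refine Fin.cases ?_ (fun l => ?_) l
      · rw [hs0, sub_self]; exact Submodule.zero_mem _
      · rw [hs0, hss, Fin.cons_zero, ha0, Pi.single_zero, sub_zero]; exact Submodule.zero_mem _
      · rw [hs0, hss, Fin.cons_zero, ha0, Pi.single_zero, sub_zero]; exact Submodule.zero_mem _
      · rw [hss, hss]
        exact Submodule.subset_span ⟨k, l, rfl⟩
    | zero =>
      have : (fun i : Fin m.length => Ideal.Quotient.mk (Ideal.span {a})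
          ((0 : Fin (m.length + 1) → A) i.succ)) = 0 := by funext i; exact map_zero _
      rw [this]; exact Submodule.zero_mem _
    | add v w _ _ hv hw =>
      have : (fun i : Fin m.length => Ideal.Quotient.mk (Ideal.span {a}) ((v + w) i.succ)) =
        (fun i : Fin m.length => Ideal.Quotient.mk (Ideal.span {a}) (v i.succ)) +
          (fun i : Fin m.length => Ideal.Quotient.mk (Ideal.span {a}) (w i.succ)) := by
        funext i; exact map_add _ _ _
      rw [this]; exact Submodule.add_mem _ hv hw
    | smul r v _ hv =>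
      have : (fun i : Fin m.length => Ideal.Quotient.mk (Ideal.span {a}) ((r • v) i.succ)) =
        (Ideal.Quotient.mk (Ideal.span {a}) r) •
          (fun i : Fin m.length => Ideal.Quotient.mk (Ideal.span {a}) (v i.succ)) := by
        funext i; exact map_mul _ _ _
      rw [this]; exact Submodule.smul_mem _ _ hv
  have h6 := h5 _ h2
  have h7 : (fun i : Fin m.length => Ideal.Quotient.mk (Ideal.span {a})
      ((Fin.cons (-r) c : Fin (m.length + 1) → A) i.succ)) = b := by
    funext i
    rw [Fin.cons_succ, hc]
  rwa [h7] at h6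

/-- The kind quasi. -/
theorem trunc_q : Trunc.{u} (fun _ _ l => CAlgX.IsQuasiRegular l.get) := by
  intro A _ a m h
  rw [K559.KindsDesc.q_map]
  have h1 : CAlgX.IsQuasiRegular (Fin.cons a m.get : Fin (m.length + 1) → A) := by
    refine (K559.KindsDesc.q_congr (List.length_cons (a := a) (as := m)) (a :: m).get _ fun i => ?_).1 h
    have h4 : ∀ (i : Fin (m.length + 1)), (Fin.cons a m.get : Fin (m.length + 1) → A) i = (a :: m)[i.1]'(by simpa using i.2) := by
      intro i
      refine Fin.cases ?_ (fun i => ?_) i
      · rfl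
      · rfl
    rw [h4]
    rfl
  have h2 := K104.QuasiReg.isQuasiRegular_quotient h1
  rw [Fin.cons_zero] at h2
  simp only [Fin.cons_succ] at h2
  exact h2

end Kinds

end Groth.Agent.SDiv.K474.MinGen
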